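import Cfsg.Agent.Lib.StrongCrit.CentralOne.Base
import Cfsg.Agent.Lib.StrongCrit.Transfer
import Mathlib.LinearAlgebra.Determinant
import Mathlib.FieldTheory.Finiteness

/-!
The central case of Aschbacher's criterion with fixed sets of `q + 1` points: the two transfers that
finish it, by the commutators with `Y` and by the determinant on `Y` over the integers modulo four.
-/

set_option autoImplicit false
set_option linter.style.haveILetI false

namespace CfsgLib.StrongCrit.CentralOne

open CfsgLib.Involutions CfsgLib.BenderTrans MulAction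

universe u

variable {G : Type u} [Group G] [Finite G] {Ω : Type u} [MulAction G Ω] [Finite Ω] {Z : Set G}
  {e : ℕ} {c x : Ω} {u : G} {P Y J : Subgroup G}

/-- Every bad involution `u y` inverts `Y`. -/
theorem inv_of_mul (hD : CliqueData Ω Z c x u P Y J) {w y : G} (hy : y ∈ Y)
    (hw : ∃ y₀ ∈ Y, w = u * y₀) : w * y * w⁻¹ = y⁻¹ := by
  obtain ⟨y₀, hy₀, rfl⟩ := hw
  calc u * y₀ * y * (u * y₀)⁻¹ = u * (y₀ * y * y₀⁻¹) * u⁻¹ := by group
    _ = u * y * u⁻¹ := by rw [(hD.comm y₀ hy₀ y hy).eq, mul_inv_cancel_right]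
    _ = y⁻¹ := hD.inv y hy

variable (h : CentralCase Ω Z 1 e)
include h

/-- A Sylow 2-subgroup above `P` does not centralise the members: the commutators with `Y` give a
homomorphism to an abelian group sending every bad involution to one element other than one. -/
theorem CliqueData.false_of_le_cen' (hD : CliqueData Ω Z c x u P Y J) (S : Sylow 2 G)
    (hY : ∀ g ∈ (S : Subgroup G), ∀ y ∈ Y, g * y * g⁻¹ ∈ Y)
    (hbad : ∀ w ∈ (S : Subgroup G), IsBad Ω w → ∃ y ∈ Y, w = u * y)
    (hS : (S : Subgroup G) ≤ cenAt Z c) : False := by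
  classical
  letI : CommGroup (memGroup Z c) :=
    { (inferInstance : Group (memGroup Z c)) with
      mul_comm := fun a b => Subtype.ext (commute_cenAt h a.2 (memGroup_le_cenAt h b.2)).eq }
  have hmem : ∀ g ∈ (S : Subgroup G), ∀ y ∈ Y, g * y * g⁻¹ * y⁻¹ ∈ memGroup Z c := by
    intro g hg y hy
    have hgy := hY g hg y hy
    refine hD.mem_of_sq _ (mul_mem hgy (inv_mem hy)) ?_
    have h1 : g * y * g⁻¹ * (g * y * g⁻¹) = y * y := by
      rw [show g * y * g⁻¹ * (g * y * g⁻¹) = g * (y * y) * g⁻¹ by group,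
        ← (commute_cenAt h (hD.sq_mem y hy) (hS hg)).eq, mul_inv_cancel_right]
    have h2 : g * y * g⁻¹ * y⁻¹ * (g * y * g⁻¹ * y⁻¹) = g * y * g⁻¹ * (g * y * g⁻¹) * (y⁻¹ * y⁻¹) := by
      have hc : Commute y⁻¹ (g * y * g⁻¹) := hD.comm _ (inv_mem hy) _ hgy
      exact hc.mul_mul_mul_comm _ _
    rw [h2, h1]
    group
  let φ : (S : Subgroup G) →* (↥Y → memGroup Z c) :=
    MonoidHom.mk' (fun g y => ⟨_, hmem g g.2 y y.2⟩) fun g k => by
      funext y
      apply Subtype.ext
      show (g : G) * k * y * ((g : G) * k)⁻¹ * (y : G)⁻¹ =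
        (g : G) * y * (g : G)⁻¹ * (y : G)⁻¹ * ((k : G) * y * (k : G)⁻¹ * (y : G)⁻¹)
      have hkc := commute_cenAt h (hmem k k.2 y y.2) (hS g.2)
      have hkg := commute_cenAt h (hmem k k.2 y y.2) (memGroup_le_cenAt h (hmem g g.2 y y.2))
      rw [← hkg.eq]
      calc (g : G) * k * y * ((g : G) * k)⁻¹ * (y : G)⁻¹
          = (g : G) * ((k : G) * y * (k : G)⁻¹ * (y : G)⁻¹) * y * (g : G)⁻¹ * (y : G)⁻¹ := by group
        _ = (k : G) * y * (k : G)⁻¹ * (y : G)⁻¹ * g * y * (g : G)⁻¹ * (y : G)⁻¹ := by rw [← hkc.eq]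
        _ = _ := by group
  let i : ↥Y → memGroup Z c := fun y => ⟨(y : G) * y, hD.sq_mem y y.2⟩
  obtain ⟨t, ht⟩ := h.crit.base.exists_memAt c
  have hi : i ≠ 1 := fun e1 => by
    obtain ⟨y, hy, hyt⟩ := hD.exists_sq t ((mem_memGroup h).2 (Or.inr ht))
    have h1 : y * y = 1 := congrArg Subtype.val (congrFun e1 ⟨y, hy⟩)
    exact ne_one_of_involution (h.crit.base.invol t ht.1) (hyt.symm.trans h1)
  refine h.crit.base.false_of_sylow_hom h.crit.faith S φ hi (fun w hw => ?_) hD.bad
    (h.crit.gen ▸ Subgroup.mem_top u)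
  funext y
  apply Subtype.ext
  show (w : G) * y * (w : G)⁻¹ * (y : G)⁻¹ = (y : G) * y
  rw [inv_of_mul hD y.2 (hbad w w.2 hw), ← mul_inv_rev, memGroup_inv h (hD.sq_mem y y.2)]

/-- With an odd exponent the determinant on `Y`, a free module over the integers modulo four,
sends every bad involution to minus one. -/
theorem CliqueData.false_of_odd' (hD : CliqueData Ω Z c x u P Y J) (S : Sylow 2 G)
    (hY : ∀ g ∈ (S : Subgroup G), ∀ y ∈ Y, g * y * g⁻¹ ∈ Y)
    (hbad : ∀ w ∈ (S : Subgroup G), IsBad Ω w → ∃ y ∈ Y, w = u * y) (he : Odd e) : False := by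
  classical
  have : Fact (Nat.Prime 2) := ⟨Nat.prime_two⟩
  letI : CommGroup Y :=
    { (inferInstance : Group Y) with mul_comm := fun a b => Subtype.ext (hD.comm a a.2 b b.2).eq }
  letI : CommGroup (memGroup Z c) :=
    { (inferInstance : Group (memGroup Z c)) with
      mul_comm := fun a b => Subtype.ext (commute_cenAt h a.2 (memGroup_le_cenAt h b.2)).eq }
  have h4 : ∀ y : Additive Y, (4 : ℕ) • y = 0 := fun y => by
    apply Additive.toMul.injective
    apply Subtype.ext
    show ((y.toMul : Y) : G) ^ 4 = 1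
    rw [show (4 : ℕ) = 2 * 2 from rfl, pow_mul, pow_two, pow_two,
      memGroup_sq h (hD.sq_mem _ y.toMul.2)]
  have h2 : ∀ b : Additive (memGroup Z c), (2 : ℕ) • b = 0 := fun b => by
    apply Additive.toMul.injective
    apply Subtype.ext
    show ((b.toMul : memGroup Z c) : G) ^ 2 = 1
    rw [pow_two, memGroup_sq h b.toMul.2]
  letI : Module (ZMod 4) (Additive Y) := AddCommGroup.zmodModule h4
  letI : Module (ZMod 2) (Additive (memGroup Z c)) := AddCommGroup.zmodModule h2
  have : Finite (Additive (memGroup Z c)) := Finite.of_equiv _ Additive.ofMul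
  have : Module.Finite (ZMod 2) (Additive (memGroup Z c)) := Module.Finite.of_finite
  have hrank : Module.finrank (ZMod 2) (Additive (memGroup Z c)) = e := by
    have h1 := Module.natCard_eq_pow_finrank (K := ZMod 2) (V := Additive (memGroup Z c))
    rw [Nat.card_congr Additive.toMul, card_memGroup h, Nat.card_zmod] at h1
    exact (Nat.pow_right_injective le_rfl h1).symm
  let b := Module.finBasisOfFinrankEq (ZMod 2) (Additive (memGroup Z c)) hrank
  choose y hy hsq using fun i : Fin e => hD.exists_sq _ (b i).toMul.2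
  let v : Fin e → Additive Y := fun i => Additive.ofMul ⟨y i, hy i⟩
  -- squaring
  let sq : Additive Y →+ Additive (memGroup Z c) :=
    AddMonoidHom.mk' (fun a => Additive.ofMul ⟨(a.toMul : G) * a.toMul, hD.sq_mem _ a.toMul.2⟩)
      fun a a' => by
        apply Additive.toMul.injective
        apply Subtype.ext
        show (a.toMul : G) * a'.toMul * ((a.toMul : G) * a'.toMul) =
          (a.toMul : G) * a.toMul * ((a'.toMul : G) * a'.toMul)
        exact (hD.comm _ a'.toMul.2 _ a.toMul.2).mul_mul_mul_comm _ _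
  have hv : ∀ i, sq (v i) = b i := fun i => Additive.toMul.injective (Subtype.ext (hsq i))
  let L : (Fin e → ZMod 4) →ₗ[ZMod 4] Additive Y := Fintype.linearCombination (ZMod 4) v
  have hsm : ∀ (n : ℕ) (a : Additive Y), (n : ZMod 4) • a = n • a := fun n a => Nat.cast_smul_eq_nsmul _ n a
  have hsum : ∀ c' : Fin e → ZMod 2, ∑ i, (c' i).val • v i ∈ L.range := fun c' =>
    ⟨fun i => ((c' i).val : ZMod 4), by
      rw [Fintype.linearCombination_apply]
      exact Finset.sum_congr rfl fun i _ => hsm _ _⟩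
  have hsqsum : ∀ c' : Fin e → ZMod 2, sq (∑ i, (c' i).val • v i) = ∑ i, c' i • b i := fun c' => by
    rw [map_sum]
    refine Finset.sum_congr rfl fun i _ => ?_
    rw [map_nsmul, hv, ← Nat.cast_smul_eq_nsmul (ZMod 2), ZMod.natCast_zmod_val]
  have hsurj : Function.Surjective L := by
    intro a
    set a₁ := ∑ i, (b.repr (sq a) i).val • v i with ha₁
    have h1 : sq (a - a₁) = 0 := by rw [map_sub, ha₁, hsqsum, b.sum_repr, sub_self]
    set d := a - a₁ with hd
    have hdE : (d.toMul : G) ∈ memGroup Z c :=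
      hD.mem_of_sq _ d.toMul.2 (congrArg (fun z => ((Additive.toMul z : memGroup Z c) : G)) h1)
    set r := Additive.ofMul (⟨_, hdE⟩ : memGroup Z c) with hr
    set a₂ := ∑ i, (b.repr r i).val • v i with ha₂
    have h2' : sq a₂ = r := by rw [ha₂, hsqsum, b.sum_repr]
    have h3 : a₂ + a₂ = d := Additive.toMul.injective (Subtype.ext
      (congrArg (fun z => ((Additive.toMul z : memGroup Z c) : G)) h2'))
    have h5 : a = a₁ + (a₂ + a₂) := by rw [h3, hd, add_sub_cancel]
    rw [h5]
    exact L.range.add_mem (hsum _) (L.range.add_mem (hsum _) (hsum _))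
  have : Finite (Additive Y) := Finite.of_equiv _ Additive.ofMul
  have hcard : Nat.card (Fin e → ZMod 4) = Nat.card (Additive Y) := by
    rw [Nat.card_congr Additive.toMul, hD.card_Y, card_memGroup h, Nat.card_fun, Nat.card_zmod,
      Nat.card_fin, ← mul_pow, show (2 * 2 : ℕ) = 4 from rfl]
  have hbij : Function.Bijective L := (Nat.bijective_iff_surjective_and_card L).2 ⟨hsurj, hcard⟩
  let bY : Module.Basis (Fin e) (ZMod 4) (Additive Y) :=
    Module.Basis.ofEquivFun (LinearEquiv.ofBijective L hbij).symm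
  -- the action
  let f : ↥(S : Subgroup G) → Additive Y →+ Additive Y := fun g =>
    AddMonoidHom.mk' (fun a => Additive.ofMul ⟨(g : G) * a.toMul * (g : G)⁻¹,
      hY g g.2 _ a.toMul.2⟩) fun a a' => by
        apply Additive.toMul.injective
        apply Subtype.ext
        show (g : G) * ((a.toMul : G) * a'.toMul) * (g : G)⁻¹ =
          (g : G) * a.toMul * (g : G)⁻¹ * ((g : G) * a'.toMul * (g : G)⁻¹)
        group
  let ρ : (S : Subgroup G) →* Module.End (ZMod 4) (Additive Y) :=
    { toFun := fun g => ((f g).toZModLinearMap 4 : Module.End (ZMod 4) (Additive Y))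
      map_one' := LinearMap.ext fun a => Additive.toMul.injective (Subtype.ext (by
        show (1 : G) * (a.toMul : G) * (1 : G)⁻¹ = a.toMul
        group))
      map_mul' := fun g k => LinearMap.ext fun a => Additive.toMul.injective (Subtype.ext (by
        show (g : G) * k * (a.toMul : G) * ((g : G) * k)⁻¹ =
          (g : G) * ((k : G) * a.toMul * (k : G)⁻¹) * (g : G)⁻¹
        group)) }
  let φ : (S : Subgroup G) →* (ZMod 4)ˣ := (LinearMap.det.comp ρ).toHomUnits
  refine h.crit.base.false_of_sylow_hom h.crit.faith S φ (i := -1) (by decide)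
    (fun w hw => Units.ext ?_) hD.bad (h.crit.gen ▸ Subgroup.mem_top u)
  show LinearMap.det (ρ w) = ((-1 : (ZMod 4)ˣ) : ZMod 4)
  have hneg : ρ w = (-1 : ZMod 4) • (LinearMap.id : Additive Y →ₗ[ZMod 4] Additive Y) := by
    refine LinearMap.ext fun a => ?_
    rw [LinearMap.smul_apply, LinearMap.id_apply, neg_one_smul]
    refine Additive.toMul.injective (Subtype.ext ?_)
    show (w : G) * a.toMul * (w : G)⁻¹ = (a.toMul : G)⁻¹
    exact inv_of_mul hD a.toMul.2 (hbad w w.2 hw)
  rw [hneg, ← LinearMap.det_toMatrix bY, map_smul, LinearMap.toMatrix_id, Matrix.det_smul,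
    Fintype.card_fin, Matrix.det_one, mul_one, he.neg_one_pow]
  rfl

end CfsgLib.StrongCrit.CentralOne
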