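import Cfsg.Agent.Lib.StrongCrit.CentralOne.Plane
import Cfsg.Agent.Lib.StrongCrit.Trans

/-!
A transitive affine group on a field with four elements as a subfield, in which the stabiliser of
zero is semilinear and contains the scalars, contains all translations: with a field involution by
the affine plane, otherwise by a fixed point free involution centralising the pair stabiliser.
-/

set_option autoImplicit false

namespace CfsgLib.StrongCrit

universe u v

namespace AffineFour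

variable {F : Type v} [Field F] [Finite F] [CharP F 2]

/-- A field automorphism of odd order fixes the cube roots of one. -/
theorem fix_cube_root {σ : F ≃+* F} (hσ : Odd (orderOf σ)) {a : F} (ha : a * a + a + 1 = 0) :
    σ a = a := by
  have h1 : σ a * σ a + σ a + 1 = 0 := by
    have := congrArg σ ha
    rwa [map_add, map_add, map_mul, map_one, map_zero] at this
  have h2 : (σ a + a) * (σ a + a + 1) = 0 := by
    linear_combination h1 + ha + (σ a * a - 1) * CharTwo.two_eq_zero (R := F)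
  rcases mul_eq_zero.1 h2 with h | h
  · exact CharTwo.add_eq_zero.1 h
  exfalso
  have hσa : σ a = a + 1 := CharTwo.add_eq_zero.1 (by rw [← add_assoc]; exact h)
  -- `σ` moves `a` with period two
  have hper : ∀ n : ℕ, (σ ^ n) a = if Even n then a else a + 1 := by
    intro n
    induction n with
    | zero => simp
    | succ n ih =>
      rw [pow_succ']
      show σ ((σ ^ n) a) = _
      rw [ih]
      by_cases he : Even n
      · rw [if_pos he, hσa, if_neg (by rw [Nat.even_add_one]; exact not_not_intro he)]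
      · rw [if_neg he, map_add, map_one, hσa, if_pos (by rwa [Nat.even_add_one]), add_assoc,
          CharTwo.add_self_eq_zero, add_zero]
  have h4 := hper (orderOf σ)
  rw [pow_orderOf_eq_one, if_neg (Nat.not_even_iff_odd.2 hσ)] at h4
  exact one_ne_zero (left_eq_add.1 h4)

/-- The hypotheses. -/
structure Hyp (Y : Subgroup (Equiv.Perm F)) : Prop where
  aff : ∀ g ∈ Y, ∀ x y : F, g (x + y) + g 0 = g x + g y
  trans : ∀ x : F, ∃ g ∈ Y, g 0 = x
  stab : ∀ g ∈ Y, g 0 = 0 → ∃ (a : F) (σ : F ≃+* F), a ≠ 0 ∧ ∀ x, g x = a * σ x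
  scalar : ∀ a : F, a ≠ 0 → ∃ g ∈ Y, ∀ x, g x = a * x

namespace Hyp

variable {Y : Subgroup (Equiv.Perm F)} (H : Hyp Y)
include H

/-- All translations, if no stabiliser element has an involutive field part. -/
theorem exists_translation_odd
    (hodd : ∀ g ∈ Y, g 0 = 0 → ∀ (a : F) (σ : F ≃+* F), (∀ x, g x = a * σ x) → Odd (orderOf σ))
    (h3 : 3 ∣ Nat.card F - 1) (b : F) : ∃ g ∈ Y, ∀ x, g x = x + b := by
  classical
  haveI : Fact (Nat.Prime 2) := ⟨Nat.prime_two⟩
  haveI : Fact (Nat.Prime 3) := ⟨Nat.prime_three⟩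
  haveI : Finite (F ≃+* F) :=
    Finite.of_injective (fun s : F ≃+* F => (s : F → F)) DFunLike.coe_injective
  haveI := TransOdd.isCyclic_ringEquiv F
  obtain ⟨n, hn⟩ : ∃ n, Nat.card F = 2 ^ n := by
    haveI := Fintype.ofFinite F
    obtain ⟨n, -, hn⟩ := FiniteField.card F 2
    exact ⟨n, by rw [Nat.card_eq_fintype_card, hn]⟩
  -- a primitive cube root of one
  obtain ⟨w, hw⟩ : ∃ w : Fˣ, orderOf w = 3 :=
    exists_prime_orderOf_dvd_card' 3 (by rwa [Nat.card_units])
  set lam : F := (w : F) with hlam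
  have hlam3 : lam ^ 3 = 1 := by
    rw [hlam, ← Units.val_pow_eq_pow_val, ← hw, pow_orderOf_eq_one, Units.val_one]
  have hlam1 : lam ≠ 1 := fun e => by
    rw [hlam, Units.val_eq_one] at e
    rw [e, orderOf_one] at hw; omega
  have hlam0 : lam ≠ 0 := w.ne_zero
  have hroot : lam * lam + lam + 1 = 0 := by
    refine (mul_eq_zero.1 (?_ : (lam - 1) * (lam * lam + lam + 1) = 0)).resolve_left
      (sub_ne_zero.2 hlam1)
    calc (lam - 1) * (lam * lam + lam + 1) = lam ^ 3 - 1 := by ring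
      _ = 0 := by rw [hlam3, sub_self]
  have hpair : ∀ g ∈ Y, g 0 = 0 → g 1 = 1 →
      ∃ σ : F ≃+* F, Odd (orderOf σ) ∧ ∀ x, g x = σ x := by
    intro g hg h0 h1
    obtain ⟨a, σ, -, hσ⟩ := H.stab g hg h0
    have ha : a = 1 := by
      have := hσ 1
      rwa [h1, map_one, mul_one, eq_comm] at this
    exact ⟨σ, hodd g hg h0 a σ hσ, fun x => by rw [hσ, ha, one_mul]⟩
  let S : Set F := {x | ∀ g ∈ Y, g 0 = 0 → g 1 = 1 → g x = x}
  have h0S : (0 : F) ∈ S := fun _ _ h _ => h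
  have h1S : (1 : F) ∈ S := fun _ _ _ h => h
  have hlamS : lam ∈ S := fun g hg h0 h1 => by
    obtain ⟨σ, hσ, hgσ⟩ := hpair g hg h0 h1
    rw [hgσ]
    exact fix_cube_root hσ hroot
  have hSdiv : ∀ x ∈ S, ∀ y ∈ S, x / y ∈ S := fun x hx y hy g hg h0 h1 => by
    obtain ⟨σ, -, hgσ⟩ := hpair g hg h0 h1
    rw [hgσ, map_div₀, ← hgσ, ← hgσ, hx g hg h0 h1, hy g hg h0 h1]
  have hSadd : ∀ x ∈ S, ∀ y ∈ S, x + y ∈ S := fun x hx y hy g hg h0 h1 => by
    obtain ⟨σ, -, hgσ⟩ := hpair g hg h0 h1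
    rw [hgσ, map_add, ← hgσ, ← hgσ, hx g hg h0 h1, hy g hg h0 h1]
  -- the pair stabiliser and its centraliser
  let W : Subgroup (Equiv.Perm F) :=
    Y ⊓ MulAction.stabilizer (Equiv.Perm F) (0 : F) ⊓ MulAction.stabilizer (Equiv.Perm F) (1 : F)
  have hmemW : ∀ {g : Equiv.Perm F}, g ∈ W ↔ g ∈ Y ∧ g 0 = 0 ∧ g 1 = 1 := fun {g} =>
    ⟨fun h => ⟨h.1.1, h.1.2, h.2⟩, fun h => ⟨⟨h.1, h.2.1⟩, h.2.2⟩⟩
  let Z : Subgroup (Equiv.Perm F) := Y ⊓ Subgroup.centralizer (W : Set (Equiv.Perm F))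
  have hscalZ : ∀ μ ∈ S, μ ≠ 0 → ∀ m ∈ Y, (∀ x, m x = μ * x) → m ∈ Z := by
    intro μ hμ _ m hm hmμ
    refine ⟨hm, Subgroup.mem_centralizer_iff.2 fun g hg => Equiv.ext fun x => ?_⟩
    obtain ⟨hgY, h0, h1⟩ := hmemW.1 hg
    obtain ⟨σ, -, hgσ⟩ := hpair g hgY h0 h1
    show g (m x) = m (g x)
    rw [hmμ, hmμ, hgσ, hgσ, map_mul, show σ μ = μ from (hgσ μ).symm.trans (hμ g hgY h0 h1)]
  -- an element interchanging `0` and `1` normalises the pair stabiliser
  obtain ⟨h, hh, hh0⟩ := H.trans 1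
  have hnz : h⁻¹ 0 ≠ 0 := fun e => by
    have := congrArg h e
    rw [show h (h⁻¹ 0) = 0 by simp, hh0] at this
    exact zero_ne_one this
  obtain ⟨m₁, hm₁, hm₁x⟩ := H.scalar _ hnz
  set k := h * m₁ with hk
  have hkY : k ∈ Y := Y.mul_mem hh hm₁
  have hk0 : k 0 = 1 := by
    show h (m₁ 0) = 1
    rw [hm₁x, mul_zero, hh0]
  have hk1 : k 1 = 0 := by
    show h (m₁ 1) = 0
    rw [hm₁x, mul_one]; simp
  have hkinv0 : k⁻¹ 0 = 1 := by rw [← hk1]; simp
  have hkinv1 : k⁻¹ 1 = 0 := by rw [← hk0]; simp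
  have hkW : ∀ g ∈ W, k⁻¹ * g * k ∈ W := fun g hg => by
    obtain ⟨hgY, h0, h1⟩ := hmemW.1 hg
    refine hmemW.2 ⟨Y.mul_mem (Y.mul_mem (Y.inv_mem hkY) hgY) hkY, ?_, ?_⟩
    · show k⁻¹ (g (k 0)) = 0
      rw [hk0, h1, hkinv1]
    · show k⁻¹ (g (k 1)) = 1
      rw [hk1, h0, hkinv0]
  -- an element of the centraliser moving `0`
  obtain ⟨m, hm, hmx⟩ := H.scalar lam hlam0
  have hmZ := hscalZ lam hlamS hlam0 m hm hmx
  set k' := k * m * k⁻¹ with hk'
  have hk'Z : k' ∈ Z := by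
    refine ⟨Y.mul_mem (Y.mul_mem hkY hm) (Y.inv_mem hkY), Subgroup.mem_centralizer_iff.2 fun g hg => ?_⟩
    have h1 := Subgroup.mem_centralizer_iff.1 hmZ.2 _ (hkW g hg)
    calc g * k' = k * (k⁻¹ * g * k * m) * k⁻¹ := by rw [hk']; group
      _ = k * (m * (k⁻¹ * g * k)) * k⁻¹ := by rw [h1]
      _ = k' * g := by rw [hk']; group
  have hk'0 : k' 0 ≠ 0 := by
    show k (m (k⁻¹ 0)) ≠ 0
    rw [hkinv0, hmx, mul_one, ← hk1]
    exact fun e => hlam1 (k.injective e)
  have hZS : ∀ z ∈ Z, z 0 ∈ S := fun z hz g hg h0 h1 => by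
    have h2 := Subgroup.mem_centralizer_iff.1 hz.2 g (hmemW.2 ⟨hg, h0, h1⟩)
    have h3 := congrArg (fun p : Equiv.Perm F => p 0) h2
    show g (z 0) = z 0
    have : g (z 0) = z (g 0) := h3
    rw [this, h0]
  -- transitive on the fixed points
  have hZtr : ∀ v ∈ S, ∃ z ∈ Z, z 0 = v := by
    intro v hv
    rcases eq_or_ne v 0 with rfl | hv0
    · exact ⟨1, Z.one_mem, rfl⟩
    obtain ⟨m', hm', hm'x⟩ := H.scalar (v / k' 0) (div_ne_zero hv0 hk'0)
    have hm'Z := hscalZ _ (hSdiv v hv _ (hZS k' hk'Z)) (div_ne_zero hv0 hk'0) m' hm' hm'x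
    exact ⟨m' * k', Z.mul_mem hm'Z hk'Z, by
      show m' (k' 0) = v
      rw [hm'x, div_mul_cancel₀ _ hk'0]⟩
  -- it has even order
  have hev : 2 ∣ Nat.card Z := by
    let SS : AddSubgroup F :=
      { carrier := S
        zero_mem' := h0S
        add_mem' := fun {a b} ha hb => hSadd a ha b hb
        neg_mem' := fun {a} ha => by rwa [CharTwo.neg_eq] }
    have h2 : 2 ∣ Nat.card SS := by
      have h21 : addOrderOf (⟨1, h1S⟩ : SS) = 2 := by
        refine addOrderOf_eq_prime ?_ fun e => one_ne_zero (congrArg Subtype.val e)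
        exact Subtype.ext (by show (2 : ℕ) • (1 : F) = 0; rw [two_nsmul, CharTwo.add_self_eq_zero])
      rw [← h21]; exact addOrderOf_dvd_natCard _
    have horb : MulAction.orbit Z (0 : F) = S := by
      ext v
      constructor
      · rintro ⟨⟨z, hz⟩, rfl⟩; exact hZS z hz
      · intro hv
        obtain ⟨z, hz, rfl⟩ := hZtr v hv
        exact ⟨⟨z, hz⟩, rfl⟩
    have h3 := Nat.card_congr (MulAction.orbitProdStabilizerEquivGroup Z (0 : F))
    rw [Nat.card_prod, horb] at h3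
    rw [← h3]
    exact h2.trans (dvd_mul_right _ _)
  obtain ⟨⟨t, htZ⟩, ht2⟩ := exists_prime_orderOf_dvd_card' 2 hev
  replace ht2 : orderOf t = 2 := (Subgroup.orderOf_coe _).trans ht2
  have htt : t * t = 1 := by
    have := pow_orderOf_eq_one t
    rwa [ht2, pow_two] at this
  have ht1 : t ≠ 1 := fun e => by rw [e, orderOf_one] at ht2; omega
  have hfree : ∀ g ∈ Y, g * g = 1 → g ≠ 1 → ∀ x, g x ≠ x := by
    intro g hg hgg hg1 x hx
    obtain ⟨h', hh', hh'0⟩ := H.trans x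
    set g' := h'⁻¹ * g * h' with hg'
    have hg'Y : g' ∈ Y := Y.mul_mem (Y.mul_mem (Y.inv_mem hh') hg) hh'
    have hg'0 : g' 0 = 0 := by
      show h'⁻¹ (g (h' 0)) = 0
      rw [hh'0, hx, ← hh'0]; simp
    have hg'g : g' * g' = 1 := by
      rw [hg', show h'⁻¹ * g * h' * (h'⁻¹ * g * h') = h'⁻¹ * (g * g) * h' by group, hgg, mul_one,
        inv_mul_cancel]
    obtain ⟨a, σ, ha, hσ⟩ := H.stab g' hg'Y hg'0
    have happ : ∀ y, a * (σ a * σ (σ y)) = y := fun y => by
      rw [← map_mul, ← hσ, ← hσ]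
      exact congrArg (fun p : Equiv.Perm F => p y) hg'g
    have haa : a * σ a = 1 := by simpa using happ 1
    have hσσ : σ * σ = 1 := RingEquiv.ext fun y => by
      have := happ y
      rwa [← mul_assoc, haa, one_mul] at this
    have hσ1 : σ = 1 := by
      refine orderOf_eq_one_iff.1 ?_
      have hd : orderOf σ ∣ 2 := orderOf_dvd_of_pow_eq_one (by rw [pow_two, hσσ])
      rcases (Nat.dvd_prime Nat.prime_two).1 hd with h' | h'
      · exact h'
      · have := hodd g' hg'Y hg'0 a σ hσ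
        rw [h'] at this
        exact absurd this (by decide)
    have ha1 : a = 1 := by
      rw [hσ1] at haa
      have h2 : (a + 1) * (a + 1) = 0 := by
        calc (a + 1) * (a + 1) = a * a + 1 + (a + a) := by ring
          _ = 0 := by
            rw [show a * a = 1 from haa, CharTwo.add_self_eq_zero, CharTwo.add_self_eq_zero, add_zero]
      exact CharTwo.add_eq_zero.1 (mul_self_eq_zero.1 h2)
    refine hg1 ?_
    have hg'1 : g' = 1 := Equiv.ext fun y => by rw [hσ, ha1, hσ1, one_mul]; rfl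
    calc g = h' * g' * h'⁻¹ := by rw [hg']; group
      _ = 1 := by rw [hg'1, mul_one, mul_inv_cancel]
  -- move it to `0 ↦ 1`
  have htv : t 0 ≠ 0 := hfree t htZ.1 htt ht1 0
  obtain ⟨m₂, hm₂, hm₂x⟩ := H.scalar (1 / t 0) (div_ne_zero one_ne_zero htv)
  have hm₂Z := hscalZ _ (hSdiv 1 h1S _ (hZS t htZ)) (div_ne_zero one_ne_zero htv) m₂ hm₂ hm₂x
  set s := m₂ * t * m₂⁻¹ with hs
  have hsZ : s ∈ Z := Z.mul_mem (Z.mul_mem hm₂Z htZ) (Z.inv_mem hm₂Z)
  have hss : s * s = 1 := by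
    rw [hs, show m₂ * t * m₂⁻¹ * (m₂ * t * m₂⁻¹) = m₂ * (t * t) * m₂⁻¹ by group, htt, mul_one,
      mul_inv_cancel]
  have hs0 : s 0 = 1 := by
    have h1 : m₂⁻¹ 0 = 0 := m₂.injective (by rw [show m₂ (m₂⁻¹ 0) = 0 by simp, hm₂x, mul_zero])
    show m₂ (t (m₂⁻¹ 0)) = 1
    rw [h1, hm₂x, div_mul_cancel₀ _ htv]
  have hs1 : s ≠ 1 := fun e => zero_ne_one (α := F) (by rw [← hs0, e]; rfl)
  -- the regular normal subgroup
  obtain ⟨R, hRn, hRsq, -, hRtr, -⟩ := exists_regular_normal (X := Y) (Γ := F) hn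
    (fun g hg => Subtype.ext (Equiv.ext hg)) (x₀ := (0 : F)) (y₀ := 1) zero_ne_one
    (fun x => by
      obtain ⟨g, hg, hgx⟩ := H.trans x
      exact ⟨⟨g, hg⟩, hgx⟩)
    (fun y hy => by
      obtain ⟨g, hg, hgx⟩ := H.scalar y hy
      exact ⟨⟨g, hg⟩, by show g 0 = 0; rw [hgx, mul_zero], by show g 1 = y; rw [hgx, mul_one]⟩)
    (fun g g' h0 h1 h0' h1' => by
      obtain ⟨σ, -, hσ⟩ := hpair g g.2 h0 h1
      obtain ⟨σ', -, hσ'⟩ := hpair g' g'.2 h0' h1'
      refine Subtype.ext (Equiv.ext fun x => ?_)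
      show (g : Equiv.Perm F) ((g' : Equiv.Perm F) x) = (g' : Equiv.Perm F) ((g : Equiv.Perm F) x)
      rw [hσ, hσ', hσ', hσ]
      letI : CommGroup (F ≃+* F) := IsCyclic.commGroup
      exact congrArg (fun f : F ≃+* F => f x) (mul_comm σ σ'))
    (s := ⟨s, hsZ.1⟩) (Subtype.ext hss) hs0 (fun x => hfree s hsZ.1 hss hs1 x)
    (fun g h0 h1 _ => Subtype.ext
      (Subgroup.mem_centralizer_iff.1 hsZ.2 g (hmemW.2 ⟨g.2, h0, h1⟩)).symm)
  -- the linear part
  let L : Y → MulAut (Multiplicative F) := fun g =>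
    { toFun := fun x => Multiplicative.ofAdd ((g : Equiv.Perm F) x.toAdd + (g : Equiv.Perm F) 0)
      invFun := fun x => Multiplicative.ofAdd
        ((g : Equiv.Perm F)⁻¹ (x.toAdd + (g : Equiv.Perm F) 0))
      left_inv := fun x => congrArg Multiplicative.ofAdd (by
        show (g : Equiv.Perm F)⁻¹ ((g : Equiv.Perm F) x.toAdd + (g : Equiv.Perm F) 0 +
          (g : Equiv.Perm F) 0) = x.toAdd
        rw [add_assoc, CharTwo.add_self_eq_zero, add_zero]; simp)
      right_inv := fun x => congrArg Multiplicative.ofAdd (by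
        show (g : Equiv.Perm F) ((g : Equiv.Perm F)⁻¹ (x.toAdd + (g : Equiv.Perm F) 0)) +
          (g : Equiv.Perm F) 0 = x.toAdd
        rw [show (g : Equiv.Perm F) ((g : Equiv.Perm F)⁻¹ (x.toAdd + (g : Equiv.Perm F) 0)) =
          x.toAdd + (g : Equiv.Perm F) 0 by simp, add_assoc, CharTwo.add_self_eq_zero, add_zero])
      map_mul' := fun x y => congrArg Multiplicative.ofAdd (by
        show (g : Equiv.Perm F) (x.toAdd + y.toAdd) + (g : Equiv.Perm F) 0 =
          ((g : Equiv.Perm F) x.toAdd + (g : Equiv.Perm F) 0) +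
            ((g : Equiv.Perm F) y.toAdd + (g : Equiv.Perm F) 0)
        rw [H.aff g g.2, add_add_add_comm, CharTwo.add_self_eq_zero, add_zero]) }
  let ρ : Y →* MulAut (Multiplicative F) := MonoidHom.mk' L fun g g' => MulEquiv.ext fun x =>
    congrArg Multiplicative.ofAdd (by
      show (g : Equiv.Perm F) ((g' : Equiv.Perm F) x.toAdd) + (g : Equiv.Perm F) ((g' : Equiv.Perm F) 0)
        = (g : Equiv.Perm F) ((g' : Equiv.Perm F) x.toAdd + (g' : Equiv.Perm F) 0) +
            (g : Equiv.Perm F) 0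
      rw [H.aff g g.2])
  have hB : IsPGroup 2 (Multiplicative F) := IsPGroup.of_card (n := n) hn
  have hone := eq_one_of_transitive_image ρ hB (fun x y hx hy => by
    have hx0 : x.toAdd ≠ 0 := fun e => hx (Multiplicative.toAdd.injective e)
    have hy0 : y.toAdd ≠ 0 := fun e => hy (Multiplicative.toAdd.injective e)
    obtain ⟨g, hg, hgx⟩ := H.scalar _ (div_ne_zero hy0 hx0)
    refine ⟨⟨g, hg⟩, ?_⟩
    show Multiplicative.ofAdd (g x.toAdd + g 0) = y
    rw [hgx, hgx, mul_zero, add_zero, div_mul_cancel₀ _ hx0, ofAdd_toAdd]) hRn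
    (fun r => ⟨1, Subtype.ext (by rw [pow_one, pow_two]; exact hRsq r r.2)⟩)
  obtain ⟨r, hrR, hr⟩ := hRtr 0 b
  refine ⟨r, r.2, fun x => ?_⟩
  have h1 : (r : Equiv.Perm F) x + (r : Equiv.Perm F) 0 = x :=
    congrArg Multiplicative.toAdd (congrArg (fun f : MulAut (Multiplicative F) =>
      f (Multiplicative.ofAdd x)) (hone r hrR))
  have h2 : (r : Equiv.Perm F) 0 = b := hr
  rw [h2] at h1
  calc (r : Equiv.Perm F) x = ((r : Equiv.Perm F) x + b) + b := by
        rw [add_assoc, CharTwo.add_self_eq_zero, add_zero]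
    _ = x + b := by rw [h1]

/-- All translations. -/
theorem exists_translation (h3 : 3 ∣ Nat.card F - 1) (b : F) : ∃ g ∈ Y, ∀ x, g x = x + b := by
  by_cases hodd : ∀ g ∈ Y, g 0 = 0 →
      ∀ (a : F) (σ : F ≃+* F), (∀ x, g x = a * σ x) → Odd (orderOf σ)
  · exact H.exists_translation_odd hodd h3 b
  push Not at hodd
  obtain ⟨g, hg, hg0, a, σ, hσ, hev⟩ := hodd
  haveI : Finite (F ≃+* F) :=
    Finite.of_injective (fun s : F ≃+* F => (s : F → F)) DFunLike.coe_injective
  obtain ⟨j, hj⟩ := even_iff_two_dvd.1 (Nat.not_odd_iff_even.1 hev)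
  have hlt : j < orderOf σ := by have := orderOf_pos σ; omega
  have hpow : ∀ i : ℕ, ∃ a' : F, ∀ x, (g ^ i) x = a' * (σ ^ i) x := by
    intro i
    induction i with
    | zero => exact ⟨1, fun x => by simp⟩
    | succ i ih =>
      obtain ⟨a', h'⟩ := ih
      refine ⟨a * σ a', fun x => ?_⟩
      rw [pow_succ']
      show g ((g ^ i) x) = _
      rw [hσ, h', map_mul, pow_succ' σ, mul_assoc]
      rfl
  obtain ⟨a', ha'⟩ := hpow j
  have ha'0 : a' ≠ 0 := fun e => by
    have h1 := ha' 1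
    rw [e, zero_mul] at h1
    have h0 := ha' 0
    rw [e, zero_mul] at h0
    exact zero_ne_one ((g ^ j).injective (h0.trans h1.symm))
  obtain ⟨⟨r, hr⟩, hrx⟩ := exists_translation_of_field_involution (X := Y) (F := F)
    (fun g x y => H.aff g g.2 x y)
    (fun x => by
      obtain ⟨g, hg, hgx⟩ := H.trans x
      exact ⟨⟨g, hg⟩, hgx⟩)
    (fun g hg => H.stab g g.2 hg)
    (fun a ha => by
      obtain ⟨g, hg, hgx⟩ := H.scalar a ha
      exact ⟨⟨g, hg⟩, hgx⟩)
    (pow_ne_one_of_lt_orderOf (by have := orderOf_pos σ; omega) hlt)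
    (fun x => by
      show (σ ^ j * σ ^ j) x = x
      rw [← pow_add, show j + j = orderOf σ by omega, pow_orderOf_eq_one]
      rfl)
    ha'0 (g₀ := ⟨g ^ j, Y.pow_mem hg j⟩) ha' b
  exact ⟨r, hr, hrx⟩

end Hyp

end AffineFour

variable {V : Type v} [AddCommGroup V] [Finite V] {X : Type u} [Group X] [MulAction X V]

/-- A transitive affine action in which the stabiliser of zero normalises an abelian group transitive
on the nonzero elements has all translations if three divides their number. -/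
theorem exists_translation_of_affine_four [Nontrivial V] (hexp : ∀ x : V, x + x = 0)
    (h3 : 3 ∣ Nat.card V - 1)
    (haff : ∀ g : X, ∀ x y : V, g • (x + y) + g • (0 : V) = g • x + g • y)
    (htr : ∀ x : V, ∃ g : X, g • (0 : V) = x) (T : Set X) (hT0 : ∀ t ∈ T, t • (0 : V) = 0)
    (hTcomm : ∀ s ∈ T, ∀ t ∈ T, ∀ v : V, s • t • v = t • s • v)
    (hTnorm : ∀ g : X, g • (0 : V) = 0 → ∀ t ∈ T, ∃ t' ∈ T, ∀ v : V, g • t • v = t' • g • v)
    (hTtr : ∀ v w : V, v ≠ 0 → w ≠ 0 → ∃ t ∈ T, t • v = w) (b : V) :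
    ∃ g : X, ∀ x : V, g • x = x + b := by
  classical
  have hlin : ∀ g : X, g • (0 : V) = 0 → ∀ x y : V, g • (x + y) = g • x + g • y := fun g hg x y => by
    have := haff g x y
    rwa [hg, add_zero] at this
  let lin : (g : X) → g • (0 : V) = 0 → AddMonoid.End V := fun g hg =>
    AddMonoidHom.mk' (fun x => g • x) (hlin g hg)
  let T' : Set (AddMonoid.End V) := {f | ∃ t ∈ T, ∀ v, f v = t • v}
  obtain ⟨F, _, _, _, e, hmul, hsemi⟩ := exists_field_of_abelian_transitive hexp T'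
    (by
      rintro s ⟨s₁, hs, hs'⟩ t ⟨t₁, ht, ht'⟩ v
      rw [hs', ht', ht', hs']
      exact hTcomm s₁ hs t₁ ht v)
    (fun v w hv hw => by
      obtain ⟨t, ht, htv⟩ := hTtr v w hv hw
      exact ⟨lin t (hT0 t ht), ⟨t, ht, fun _ => rfl⟩, htv⟩)
  letI : MulAction X F :=
    { smul := fun g x => e (g • e.symm x)
      one_smul := fun x => by show e ((1 : X) • e.symm x) = x; rw [one_smul, e.apply_symm_apply]
      mul_smul := fun g h x => by
        show e ((g * h) • e.symm x) = e (g • e.symm (e (h • e.symm x)))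
        rw [e.symm_apply_apply, mul_smul] }
  have hsmul : ∀ (g : X) (x : F), g • x = e (g • e.symm x) := fun _ _ => rfl
  have H : AffineFour.Hyp (MulAction.toPermHom X F).range := by
    refine ⟨?_, fun x => ?_, ?_, fun a ha => ?_⟩
    · rintro _ ⟨g, rfl⟩ x y
      show g • (x + y) + g • (0 : F) = g • x + g • y
      simp only [hsmul]
      rw [← map_add, ← map_add, map_add e.symm, map_zero e.symm, haff]
    · obtain ⟨g, hg⟩ := htr (e.symm x)
      exact ⟨_, ⟨g, rfl⟩, by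
        show g • (0 : F) = x
        rw [hsmul, map_zero, hg, e.apply_symm_apply]⟩
    · rintro _ ⟨g, rfl⟩ (hg : g • (0 : F) = 0)
      rw [hsmul, map_zero, e.map_eq_zero_iff] at hg
      let d : V ≃+ V :=
        { toFun := fun x => g • x
          invFun := fun x => g⁻¹ • x
          left_inv := fun x => inv_smul_smul g x
          right_inv := fun x => smul_inv_smul g x
          map_add' := hlin g hg }
      obtain ⟨a, σ, ha, h'⟩ := hsemi d (by
        rintro t ⟨t₁, ht, ht'⟩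
        obtain ⟨t₂, ht₂, h'⟩ := hTnorm g hg t₁ ht
        exact ⟨lin t₂ (hT0 t₂ ht₂), ⟨t₂, ht₂, fun _ => rfl⟩, fun v => by
          show g • (t v) = t₂ • g • v
          rw [ht', h']⟩)
      refine ⟨a, σ, ha, fun x => ?_⟩
      show g • x = _
      rw [hsmul, show g • e.symm x = d (e.symm x) from rfl, h', e.apply_symm_apply]
    · obtain ⟨t, ⟨t₁, -, ht'⟩, ht⟩ := hmul a ha
      refine ⟨_, ⟨t₁, rfl⟩, fun x => ?_⟩
      show t₁ • x = _
      rw [hsmul, ← ht', ht, e.apply_symm_apply]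
  obtain ⟨_, ⟨g, rfl⟩, hg⟩ :=
    H.exists_translation (by rwa [← Nat.card_congr e.toEquiv]) (e b)
  refine ⟨g, fun v => e.injective ?_⟩
  have h1 : g • e v = e v + e b := hg (e v)
  rw [map_add, ← h1, hsmul, e.symm_apply_apply]

end CfsgLib.StrongCrit
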