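import Cfsg.Agent.Lib.StrongCrit.CentralOne.Base
import Cfsg.Agent.Lib.StrongCrit.CentralOne.Affine
import Cfsg.Agent.Lib.StrongCrit.Semilinear
import Cfsg.Agent.Lib.StrongCrit.Hom2

/-!
The central case with fixed sets of `q + 1` points, `q` a square: the normaliser of the group of the
clique acts affinely on its `q` cosets of bad involutions, hence has translations centralising the
members; so their centraliser is transitive on the other points and, by the transfer, a Sylow
2-subgroup above the group of the clique centralises the members.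
-/

set_option autoImplicit false

namespace CfsgLib.StrongCrit.CentralOne

open CfsgLib.Involutions MulAction

universe u

variable {G : Type u} [Group G] [Finite G] {Ω : Type u} [MulAction G Ω] [Finite Ω] {Z : Set G}
  {e : ℕ} (h : CentralCase Ω Z 1 e) {c x : Ω} {u : G} {P Y J : Subgroup G}
  (D : CliqueData Ω Z c x u P Y J)

include h in
/-- The action of the stabiliser of `c` on the members at `c` with one. -/
theorem exists_linear (c : Ω) : ∃ ρ : stabilizer G c →* MulAut (memGroup Z c),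
    (∀ (g : stabilizer G c) (b : memGroup Z c), ((ρ g b : memGroup Z c) : G) = g * b * (g : G)⁻¹) ∧
      ∀ g : stabilizer G c, ρ g = 1 ↔ (g : G) ∈ cenAt Z c := by
  let f : stabilizer G c → MulAut (memGroup Z c) := fun g =>
    { toFun := fun b => ⟨g * b * (g : G)⁻¹, conj_mem_memGroup h g.2 b.2⟩
      invFun := fun b => ⟨(g : G)⁻¹ * b * g, by
        have := conj_mem_memGroup h (g := (g : G)⁻¹) (inv_smul_eq_iff.2 (Eq.symm g.2)) b.2
        rwa [inv_inv] at this⟩
      left_inv := fun b => Subtype.ext (show (g : G)⁻¹ * ((g : G) * b * (g : G)⁻¹) * g = b by group)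
      right_inv := fun b => Subtype.ext (show (g : G) * ((g : G)⁻¹ * b * g) * (g : G)⁻¹ = b by group)
      map_mul' := fun a b => Subtype.ext (show (g : G) * (a * b) * (g : G)⁻¹ =
        (g : G) * a * (g : G)⁻¹ * ((g : G) * b * (g : G)⁻¹) by group) }
  refine ⟨MonoidHom.mk' f fun g g' => MulEquiv.ext fun b => Subtype.ext
    (show (g : G) * g' * b * ((g : G) * g')⁻¹ = g * (g' * b * (g' : G)⁻¹) * (g : G)⁻¹ by group),
    fun g b => rfl, fun g => ⟨fun hg => ?_, fun hg => ?_⟩⟩
  · refine Subgroup.mem_centralizer_iff.2 fun b hb => ?_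
    have h1 : (g : G) * b * (g : G)⁻¹ = b :=
      congrArg (fun a : MulAut (memGroup Z c) => ((a ⟨b, hb⟩ : memGroup Z c) : G)) hg
    exact (mul_inv_eq_iff_eq_mul.1 h1).symm
  · refine MulEquiv.ext fun b => Subtype.ext ?_
    show (g : G) * b * (g : G)⁻¹ = b
    rw [← (commute_cenAt h b.2 hg).eq, mul_inv_cancel_right]

include h D

omit [Finite G] [Finite Ω] in
theorem mul_u_self : u * u = 1 := mul_self_eq_one D.bad.1

theorem bad_not_mem {w : G} (hw : IsBad Ω w) : w ∉ Y := by
  intro hY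
  rcases (mem_memGroup h).1 (D.mem_of_sq w hY (mul_self_eq_one hw.1)) with h1 | h1
  · exact ne_one_of_involution hw.1 h1
  · obtain ⟨-, p, p', hpp, hp, hp'⟩ := hw
    exact hpp (h.crit.base.unique w h1.1 p p' hp hp')

theorem mul_mem_of_bad {w : G} (hw : IsBad Ω w) (hwP : w ∈ P) : u * w ∈ Y :=
  (D.mem_or w hwP).resolve_left (bad_not_mem h D hw)

/-- An element of `Y` fixing another point is one. -/
theorem eq_one_of_fix {y : G} (hy : y ∈ Y) {p : Ω} (hpc : p ≠ c) (hp : y • p = p) : y = 1 := by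
  have h1 : y * y = 1 := memGroup_free h (D.sq_mem y hy) hpc (by rw [mul_smul, hp, hp])
  exact memGroup_free h (D.mem_of_sq y hy h1) hpc hp

theorem P_fix {g : G} (hg : g ∈ P) : g • c = c := cenAt_fix h (D.le_cen hg)

/-- A Sylow 2-subgroup above the group of the clique centralises the members at `c`. -/
theorem le_cenAt_of_clique (he : Even e) (S : Sylow 2 G)
    (hSc : ∀ g ∈ (S : Subgroup G), g • c = c)
    (hSP : ∀ g ∈ (S : Subgroup G), ∀ p ∈ P, g * p * g⁻¹ ∈ P)
    (hStr : ∀ y : Ω, y ≠ c → ∃ g ∈ (S : Subgroup G), g • x = y) :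
    (S : Subgroup G) ≤ cenAt Z c := by
  classical
  haveI : Fact (Nat.Prime 2) := ⟨Nat.prime_two⟩
  have hu2 := mul_u_self h D
  obtain ⟨ρ, hρ, hρ1⟩ := exists_linear h c
  -- the normaliser of `P`
  let N : Subgroup G := stabilizer G c ⊓ Subgroup.normalizer (P : Set G)
  have hmemN : ∀ g : G, g • c = c → (∀ p ∈ P, g * p * g⁻¹ ∈ P) → g ∈ N := by
    intro g hgc hgP
    refine ⟨hgc, Subgroup.mem_normalizer_iff.2 fun p => ⟨hgP p, fun hp => ?_⟩⟩
    obtain ⟨⟨q, hq⟩, hqp⟩ := Finite.surjective_of_injective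
      (f := fun q : P => (⟨g * q * g⁻¹, hgP q q.2⟩ : P))
      (fun a b hab => Subtype.ext (by simpa using congrArg Subtype.val hab)) ⟨_, hp⟩
    have h1 : g * q * g⁻¹ = g * p * g⁻¹ := congrArg Subtype.val hqp
    have h2 : q = p := by simpa using h1
    rwa [← h2]
  have hNP : ∀ n : N, ∀ p ∈ P, (n : G) * p * (n : G)⁻¹ ∈ P := fun n p hp =>
    (Subgroup.mem_normalizer_iff.1 n.2.2 p).1 hp
  let y₀ : N → G := fun n => u * ((n : G) * u * (n : G)⁻¹)
  have hy₀ : ∀ n : N, y₀ n ∈ Y := fun n => mul_mem_of_bad h D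
    (isBad_conj D.bad n) (hNP n u D.mem_u)
  have hconjY : ∀ n : N, ∀ y ∈ Y, (n : G) * y * (n : G)⁻¹ ∈ Y := by
    intro n y hy
    have h1 := mul_mem_of_bad h D (isBad_conj (D.isBad_mul y hy) (n : G))
      (hNP n _ (P.mul_mem D.mem_u (D.le hy)))
    have h2 := Y.mul_mem (Y.inv_mem (hy₀ n)) h1
    have h3 : (y₀ n)⁻¹ * (u * ((n : G) * (u * y) * (n : G)⁻¹)) = (n : G) * y * (n : G)⁻¹ := by
      show (u * ((n : G) * u * (n : G)⁻¹))⁻¹ * _ = _
      group
    rwa [h3] at h2
  have hy₀mul : ∀ n m : N, y₀ (n * m) = y₀ n * ((n : G) * y₀ m * (n : G)⁻¹) := by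
    intro n m
    show u * ((n : G) * m * u * ((n : G) * m)⁻¹) =
      u * ((n : G) * u * (n : G)⁻¹) * ((n : G) * (u * ((m : G) * u * (m : G)⁻¹)) * (n : G)⁻¹)
    calc u * ((n : G) * m * u * ((n : G) * m)⁻¹)
        = u * ((n : G) * (u * u) * ((m : G) * u * (m : G)⁻¹) * (n : G)⁻¹) := by rw [hu2]; group
      _ = _ := by group
  let δ : N → (memGroup Z c) := fun n => ⟨y₀ n * y₀ n, D.sq_mem _ (hy₀ n)⟩
  have hδmul : ∀ n m : N, δ (n * m) = δ n * ρ ⟨n, n.2.1⟩ (δ m) := by
    intro n m
    refine Subtype.ext ?_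
    rw [Subgroup.coe_mul, hρ]
    show y₀ (n * m) * y₀ (n * m) = y₀ n * y₀ n * ((n : G) * (y₀ m * y₀ m) * (n : G)⁻¹)
    set a := (n : G) * y₀ m * (n : G)⁻¹ with ha
    have hac : Commute (y₀ n) a := D.comm _ (hy₀ n) _ (hconjY n _ (hy₀ m))
    rw [hy₀mul, show (n : G) * (y₀ m * y₀ m) * (n : G)⁻¹ = a * a by rw [ha]; group]
    calc y₀ n * a * (y₀ n * a) = y₀ n * (a * y₀ n) * a := by group
      _ = y₀ n * (y₀ n * a) * a := by rw [hac.eq]
      _ = y₀ n * y₀ n * (a * a) := by group
  have hδone : δ 1 = 1 := Subtype.ext (by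
    show u * ((1 : G) * u * (1 : G)⁻¹) * (u * ((1 : G) * u * (1 : G)⁻¹)) = 1
    simp [hu2])
  have hEc : ∀ a b : (memGroup Z c), a * b = b * a := fun a b => Subtype.ext
    (h.crit.base.commute_memGroup h.crit.faith h.comm a.2 b.2).eq
  letI : CommGroup (memGroup Z c) := { (inferInstance : Group (memGroup Z c)) with mul_comm := hEc }
  letI actN : MulAction N (Additive (memGroup Z c)) :=
    { smul := fun n v => Additive.ofMul (δ n * ρ ⟨n, n.2.1⟩ v.toMul)
      one_smul := fun v => congrArg Additive.ofMul (by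
        show δ 1 * ρ 1 v.toMul = v.toMul
        rw [hδone, one_mul, map_one, MulAut.one_apply])
      mul_smul := fun n m v => congrArg Additive.ofMul (by
        show δ (n * m) * ρ (⟨n, n.2.1⟩ * ⟨m, m.2.1⟩) v.toMul =
          δ n * ρ ⟨n, n.2.1⟩ (δ m * ρ ⟨m, m.2.1⟩ v.toMul)
        rw [hδmul, map_mul ρ, MulAut.mul_apply, map_mul, mul_assoc]) }
  have hsmul : ∀ (n : N) (v : Additive (memGroup Z c)), (n • v).toMul = δ n * ρ ⟨n, n.2.1⟩ v.toMul :=
    fun _ _ => rfl
  have hzero : ∀ n : N, n • (0 : Additive (memGroup Z c)) = 0 ↔ δ n = 1 := fun n => by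
    rw [← Additive.toMul.injective.eq_iff, hsmul, toMul_zero, map_one, mul_one]
  -- lifts of the torus
  let T : Set N := {t | Commute (t : G) u ∧ ∃ j ∈ J, (t : G) * j⁻¹ ∈ cenAt Z c}
  have hTδ : ∀ t ∈ T, δ t = 1 := fun t ht => Subtype.ext (by
    show u * ((t : G) * u * (t : G)⁻¹) * (u * ((t : G) * u * (t : G)⁻¹)) = 1
    rw [ht.1.eq, mul_inv_cancel_right, hu2, one_mul])
  have hlift : ∀ j ∈ J, ∃ t ∈ T, (t : G) * j⁻¹ ∈ cenAt Z c := by
    intro j hj
    obtain ⟨k, hk, hkx, hku, hkP⟩ := D.normalize j hj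
    have hkj : k * j * j⁻¹ ∈ cenAt Z c := by rwa [mul_inv_cancel_right]
    refine ⟨⟨k * j, hmemN _ (by rw [mul_smul, (D.torus.fix j hj).1, cenAt_fix h hk]) hkP⟩,
      ⟨hku.mul_left (D.torus.commute u D.bad D.fix_c D.fix_x j hj).symm, j, hj, hkj⟩, hkj⟩
  have hJc : ∀ j ∈ J, j ∈ stabilizer G c := fun j hj => (D.torus.fix j hj).1
  have hTρ : ∀ (t : N) (j : G) (hj : j ∈ J), (t : G) * j⁻¹ ∈ cenAt Z c →
      ρ ⟨t, t.2.1⟩ = ρ ⟨j, hJc j hj⟩ := by
    intro t j hj htj
    have h1 := (hρ1 ⟨(t : G) * j⁻¹, (stabilizer G c).mul_mem t.2.1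
      ((stabilizer G c).inv_mem (hJc j hj))⟩).2 htj
    have h2 : (⟨t, t.2.1⟩ : stabilizer G c) = ⟨(t : G) * j⁻¹, (stabilizer G c).mul_mem t.2.1
      ((stabilizer G c).inv_mem (hJc j hj))⟩ * ⟨j, hJc j hj⟩ := Subtype.ext (by simp)
    rw [h2, map_mul, h1, one_mul]
  -- the stabiliser of zero fixes `x` up to the centraliser
  have hdecomp : ∀ n : N, δ n = 1 → ∃ d : G, d • c = c ∧ d • x = x ∧ (n : G) * d⁻¹ ∈ cenAt Z c := by
    intro n hn
    have hb : y₀ n ∈ (memGroup Z c) := D.mem_of_sq _ (hy₀ n) (congrArg Subtype.val hn)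
    obtain ⟨y, hy, hyb⟩ := D.exists_sq _ hb
    -- `g = y * n` centralises `u`
    have hgu : Commute (y * (n : G)) u := by
      have h1 : (n : G) * u * (n : G)⁻¹ = u * (y * y) := by
        rw [hyb]
        show _ = u * (u * ((n : G) * u * (n : G)⁻¹))
        rw [← mul_assoc, hu2, one_mul]
      have h2 : y * u = u * y⁻¹ := by
        rw [← D.inv y hy, inv_eq_self_of_involution D.bad.1, ← mul_assoc, ← mul_assoc, hu2, one_mul]
      show y * (n : G) * u = u * (y * (n : G))
      calc y * (n : G) * u = y * ((n : G) * u * (n : G)⁻¹) * (n : G) := by group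
        _ = y * u * (y * y) * (n : G) := by rw [h1]; group
        _ = u * y⁻¹ * (y * y) * (n : G) := by rw [h2]
        _ = u * (y * (n : G)) := by group
    have hgc : (y * (n : G)) • c = c := by
      rw [mul_smul, mem_stabilizer_iff.1 n.2.1, P_fix h D (D.le hy)]
    have hgx : u • (y * (n : G)) • x = (y * (n : G)) • x := by
      rw [smul_smul, ← hgu.eq, mul_smul, D.fix_x]
    obtain ⟨b, hb', hbx⟩ := exists_smul_eq_of_fixed h D.bad D.fix_c D.fix_x D.ne hgx
      fun e' => D.ne (MulAction.injective (y * (n : G)) (e'.trans hgc.symm))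
    refine ⟨b⁻¹ * (y * (n : G)), ?_, ?_, ?_⟩
    · rw [mul_smul, hgc, memGroup_inv h hb', memGroup_fix h hb']
    · rw [mul_smul, ← hbx, inv_smul_smul]
    · rw [show (n : G) * (b⁻¹ * (y * (n : G)))⁻¹ = y⁻¹ * b by group]
      exact (cenAt Z c).mul_mem ((cenAt Z c).inv_mem (D.le_cen (D.le hy)))
        (memGroup_le_cenAt h hb')
  haveI : IsCyclic J := D.torus.isCyclic
  have hJcomm : ∀ i ∈ J, ∀ j ∈ J, i * j = j * i := fun i hi j hj =>
    congrArg Subtype.val
      ((IsCyclic.isMulCommutative (α := J)).is_comm.comm ⟨i, hi⟩ ⟨j, hj⟩)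
  have hkey : ∀ v : Additive (memGroup Z c), v ≠ 0 → (v.toMul : G) ∈ memAt Z c := fun v hv =>
    ((mem_memGroup h).1 v.toMul.2).resolve_left fun e =>
      hv (congrArg Additive.ofMul (Subtype.ext e : v.toMul = 1))
  haveI : Nontrivial (Additive (memGroup Z c)) := by
    refine Finite.one_lt_card_iff_nontrivial.1 ?_
    rw [show Nat.card (Additive (memGroup Z c)) = Nat.card (memGroup Z c) from rfl, card_memGroup h]
    have := four_le h
    omega
  have hexp : ∀ v : Additive (memGroup Z c), v + v = 0 := fun v =>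
    congrArg Additive.ofMul (Subtype.ext (memGroup_sq h v.toMul.2) : v.toMul * v.toMul = 1)
  have h3 : 3 ∣ Nat.card (Additive (memGroup Z c)) - 1 := by
    obtain ⟨i, hi⟩ := he
    rw [show Nat.card (Additive (memGroup Z c)) = Nat.card (memGroup Z c) from rfl, card_memGroup h, hi, ← two_mul, pow_mul]
    have := Nat.sub_dvd_pow_sub_pow 4 1 i
    simpa using this
  -- translations
  have htrans : ∀ b : (memGroup Z c), ∃ n : N, (n : G) ∈ cenAt Z c ∧ δ n = b := by
    intro b
    obtain ⟨g, hg⟩ := exists_translation_of_affine_four hexp h3 (X := N)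
      (fun n v w => by
        refine Additive.toMul.injective ?_
        simp only [toMul_add, hsmul, toMul_zero, map_mul, map_one, mul_one]
        ac_rfl)
      (fun v => by
        obtain ⟨z, hz, hzv⟩ := D.exists_sq (v.toMul : G) v.toMul.2
        obtain ⟨-, p, p', hpp, hp, hp'⟩ := id (D.isBad_mul z hz)
        obtain ⟨q, hq, hqc⟩ : ∃ q, (u * z) • q = q ∧ q ≠ c := by
          rcases eq_or_ne p c with rfl | hpc
          · exact ⟨p', hp', hpp.symm⟩
          · exact ⟨p, hp, hpc⟩
        obtain ⟨s, hs, hsx⟩ := hStr q hqc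
        let n : N := ⟨s, hmemN s (hSc s hs) (hSP s hs)⟩
        have h1 : y₀ n = z := by
          have h2 : z⁻¹ * y₀ n = 1 := eq_one_of_fix h D (Y.mul_mem (Y.inv_mem hz) (hy₀ n)) hqc (by
            have h3 : z⁻¹ * y₀ n = (u * z)⁻¹ * (s * u * s⁻¹) := by
              show z⁻¹ * (u * (s * u * s⁻¹)) = _
              rw [mul_inv_rev, inv_eq_self_of_involution D.bad.1]; group
            have h4 : (s * u * s⁻¹) • q = q := by
              rw [mul_smul, inv_smul_eq_iff.2 hsx.symm, mul_smul, D.fix_x, hsx]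
            rw [h3, mul_smul, h4, inv_smul_eq_iff, hq])
          exact (inv_mul_eq_one.1 h2).symm
        refine ⟨n, Additive.toMul.injective ?_⟩
        rw [hsmul, toMul_zero, map_one, mul_one]
        exact Subtype.ext (by show y₀ n * y₀ n = _; rw [h1]; exact hzv))
      T (fun t ht => (hzero t).2 (hTδ t ht))
      (fun s hs t ht v => by
        obtain ⟨i, hi, hsi⟩ := hs.2
        obtain ⟨j, hj, htj⟩ := ht.2
        refine Additive.toMul.injective ?_
        simp only [hsmul, hTδ s hs, hTδ t ht, one_mul, hTρ s i hi hsi, hTρ t j hj htj]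
        rw [← MulAut.mul_apply, ← MulAut.mul_apply, ← map_mul, ← map_mul,
          show (⟨i, hJc i hi⟩ : stabilizer G c) * ⟨j, hJc j hj⟩ = ⟨j, hJc j hj⟩ * ⟨i, hJc i hi⟩ from
            Subtype.ext (hJcomm i hi j hj)])
      (fun g hg t ht => by
        obtain ⟨d, hdc, hdx, hgd⟩ := hdecomp g ((hzero g).1 hg)
        obtain ⟨j, hj, htj⟩ := ht.2
        have hj' := D.torus.norm d hdc hdx j hj
        obtain ⟨t', ht', ht'j⟩ := hlift _ hj'
        refine ⟨t', ht', fun v => Additive.toMul.injective ?_⟩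
        simp only [hsmul, (hzero g).1 hg, hTδ t ht, hTδ t' ht', one_mul, hTρ t j hj htj,
          hTρ t' _ hj' ht'j]
        have h1 : ρ ⟨g, g.2.1⟩ = ρ ⟨d, hdc⟩ := by
          have h1 := (hρ1 ⟨(g : G) * d⁻¹, (stabilizer G c).mul_mem g.2.1
            ((stabilizer G c).inv_mem hdc)⟩).2 hgd
          have h2 : (⟨g, g.2.1⟩ : stabilizer G c) = ⟨(g : G) * d⁻¹, (stabilizer G c).mul_mem g.2.1
            ((stabilizer G c).inv_mem hdc)⟩ * ⟨d, hdc⟩ := Subtype.ext (by simp)
          rw [h2, map_mul, h1, one_mul]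
        rw [h1, ← MulAut.mul_apply, ← MulAut.mul_apply, ← map_mul, ← map_mul,
          show (⟨d, hdc⟩ : stabilizer G c) * ⟨j, hJc j hj⟩ =
            ⟨d * j * d⁻¹, hJc _ hj'⟩ * ⟨d, hdc⟩ from Subtype.ext (by simp)])
      (fun v w hv hw => by
        obtain ⟨j, hj, hjvw⟩ := (D.torus.regular _ (hkey v hv)).surjOn (hkey w hw)
        obtain ⟨t, ht, htj⟩ := hlift j hj
        refine ⟨t, ht, Additive.toMul.injective (Subtype.ext ?_)⟩
        simp only [hsmul, hTδ t ht, one_mul, hTρ t j hj htj]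
        rw [hρ]; exact hjvw) (Additive.ofMul b)
    have h0 : δ g = b := by
      have := congrArg Additive.toMul (hg 0)
      rwa [hsmul, toMul_zero, map_one, mul_one, zero_add, toMul_ofMul] at this
    refine ⟨g, (hρ1 ⟨g, g.2.1⟩).1 (MulEquiv.ext fun a => ?_), h0⟩
    have := congrArg Additive.toMul (hg (Additive.ofMul a))
    rw [hsmul, toMul_add, toMul_ofMul, toMul_ofMul, h0, mul_comm a b] at this
    exact mul_left_cancel this
  -- a 2-subgroup of the centraliser with small point stabiliser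
  let N₀ : Subgroup G := N ⊓ cenAt Z c
  let δ₀ : N₀ →* (memGroup Z c) := MonoidHom.mk' (fun n => δ ⟨n, n.2.1⟩) fun n m => by
    show δ (⟨n, n.2.1⟩ * ⟨m, m.2.1⟩) = _
    rw [hδmul, (hρ1 _).2 n.2.2, MulAut.one_apply]
  have hδsurj : Function.Surjective δ₀ := fun b => by
    obtain ⟨n, hn, hnb⟩ := htrans b
    exact ⟨⟨n, n.2, hn⟩, hnb⟩
  have hPN : P ≤ N₀ := fun p hp => ⟨hmemN p (P_fix h D hp) fun q hq =>
    P.mul_mem (P.mul_mem hp hq) (P.inv_mem hp), D.le_cen hp⟩
  have hPker : ∀ p (hp : p ∈ P), δ₀ ⟨p, hPN hp⟩ = 1 := by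
    intro p hp
    refine Subtype.ext ?_
    show u * (p * u * p⁻¹) * (u * (p * u * p⁻¹)) = 1
    rcases D.mem_or p hp with hpY | hpY
    · have h1 : u * (p * u * p⁻¹) = p⁻¹ * p⁻¹ := by
        calc u * (p * u * p⁻¹) = u * p * u⁻¹ * p⁻¹ := by
              rw [inv_eq_self_of_involution D.bad.1]; group
          _ = _ := by rw [D.inv p hpY]
      rw [h1]
      exact memGroup_sq h (show p⁻¹ * p⁻¹ ∈ memGroup Z c from D.sq_mem _ (Y.inv_mem hpY))
    · have h2 : u * (u * p) * u⁻¹ = (u * p)⁻¹ := D.inv _ hpY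
      have h3 : u * (p * u * p⁻¹) = u * p * (u * p⁻¹) := by group
      have h4 : p * u⁻¹ = p⁻¹ * u⁻¹ := by
        rw [← mul_assoc, hu2, one_mul, mul_inv_rev] at h2
        exact h2
      have h5 : p⁻¹ = p := (mul_right_cancel h4).symm
      rw [h3, h5]
      exact memGroup_sq h (show u * p * (u * p) ∈ memGroup Z c from D.sq_mem _ hpY)
  obtain ⟨W, hW⟩ := (IsPGroup.of_equiv D.isTwo (Subgroup.subgroupOfEquivOfLe hPN).symm).exists_le_sylow
  have hWsurj : ((W : Subgroup N₀).map δ₀) = ⊤ := by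
    have hodd : Odd ((W : Subgroup N₀).map δ₀).index := (Nat.not_even_iff_odd.1 fun hev =>
      W.not_dvd_index (even_iff_two_dvd.1 hev)).of_dvd_nat
        (Subgroup.index_map_dvd _ hδsurj)
    have h2 : ((W : Subgroup N₀).map δ₀).index ∣ 2 ^ e :=
      card_memGroup h (c := c) ▸ Subgroup.index_dvd_card _
    refine Subgroup.index_eq_one.1 (Nat.dvd_one.1 ?_)
    rw [← (Nat.Coprime.pow_right e (Nat.coprime_two_right.2 hodd) :
      Nat.Coprime ((W : Subgroup N₀).map δ₀).index (2 ^ e)).gcd_eq_one]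
    exact Nat.dvd_gcd dvd_rfl h2
  have hWcard : 2 * (2 ^ e * 2 ^ e * 2 ^ e) ≤ Nat.card (W : Subgroup N₀) := by
    let r : (W : Subgroup N₀) →* (memGroup Z c) := δ₀.comp (W : Subgroup N₀).subtype
    have hr : r.range = ⊤ := by
      rw [MonoidHom.range_comp, Subgroup.range_subtype, hWsurj]
    have hker : 2 * Nat.card Y ≤ Nat.card r.ker := by
      have hPle : ∀ (p : G) (hp : p ∈ P), (⟨p, hPN hp⟩ : N₀) ∈ (W : Subgroup N₀) := fun p hp => hW hp
      have hmemP : ∀ q : Bool × Y, (bif q.1 then u * (q.2 : G) else q.2) ∈ P := fun q => by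
        rcases q with ⟨_ | _, y⟩
        · exact D.le y.2
        · exact P.mul_mem D.mem_u (D.le y.2)
      let f : Bool × Y → r.ker := fun q =>
        ⟨⟨⟨_, hPN (hmemP q)⟩, hPle _ (hmemP q)⟩, hPker _ (hmemP q)⟩
      have hf : Function.Injective f := by
        rintro ⟨a, y⟩ ⟨b, z⟩ hab
        have h1 : (bif a then u * (y : G) else y) = bif b then u * (z : G) else z :=
          congrArg (fun k : r.ker => (((k : (W : Subgroup N₀)) : N₀) : G)) hab
        cases a <;> cases b <;> simp only [Bool.cond_false, Bool.cond_true] at h1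
        · rw [Subtype.ext h1]
        · exact absurd (h1 ▸ y.2 : u * (z : G) ∈ Y) (bad_not_mem h D (D.isBad_mul z z.2))
        · exact absurd (h1.symm ▸ z.2 : u * (y : G) ∈ Y) (bad_not_mem h D (D.isBad_mul y y.2))
        · rw [Subtype.ext (mul_left_cancel h1)]
      have := Nat.card_le_card_of_injective f hf
      rwa [Nat.card_prod, Nat.card_eq_fintype_card (α := Bool), Fintype.card_bool] at this
    rw [Subgroup.card_eq_card_quotient_mul_card_subgroup r.ker,
      Nat.card_congr (QuotientGroup.quotientKerEquivRange r).toEquiv, hr,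
      Nat.card_congr Subgroup.topEquiv.toEquiv, card_memGroup h]
    rw [D.card_Y, card_memGroup h] at hker
    calc 2 * (2 ^ e * 2 ^ e * 2 ^ e) = 2 ^ e * (2 * (2 ^ e * 2 ^ e)) := by ring
      _ ≤ _ := Nat.mul_le_mul_left _ hker
  have hfixu : ∀ g : G, g ∈ N₀ → g • x = x → Commute g u := by
    intro g hg hgx
    have h1 : y₀ ⟨g, hg.1⟩ = 1 := eq_one_of_fix h D (hy₀ _) D.ne (by
      show (u * (g * u * g⁻¹)) • x = x
      rw [mul_smul, mul_smul, mul_smul, inv_smul_eq_iff.2 hgx.symm, D.fix_x, hgx, D.fix_x])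
    have h2 : g * u * g⁻¹ = u := by
      have h3 : u * (g * u * g⁻¹) = 1 := h1
      rw [mul_eq_one_iff_eq_inv'] at h3
      rw [h3, inv_eq_self_of_involution D.bad.1]
    exact mul_inv_eq_iff_eq_mul.1 h2
  have hsmall : ∀ (k : ℕ) (g : G), g ∈ N₀ → g • x = x → g ^ 2 ^ k = 1 → g = 1 ∨ g = u := by
    intro k
    induction k with
    | zero => intro g _ _ hg; exact Or.inl (by simpa using hg)
    | succ k ih =>
      intro g hgN hgx hg
      have hgu := hfixu g hgN hgx
      rcases ih (g * g) (N₀.mul_mem hgN hgN) (by rw [mul_smul, hgx, hgx]) (by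
        rw [← pow_two, ← pow_mul, mul_comm, ← pow_succ]; exact hg) with h2 | h2
      · by_cases hg1 : g = 1
        · exact Or.inl hg1
        refine Or.inr ?_
        have hgc : g • c = c := cenAt_fix h hgN.2
        rcases h.crit.base.mem_or_isBad h.crit.faith (orderOf_eq_two_iff_mul.2 ⟨hg1, h2⟩) hgc with
          hm | hm
        · exact absurd (h.crit.base.unique g hm x c hgx hgc) D.ne
        · exact D.noFour g u hm D.bad hgu c x D.ne.symm hgc hgx D.fix_c D.fix_x
      · exfalso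
        -- a square root of `u` would centralise `Y` modulo the members
        obtain ⟨a, ha⟩ := h.crit.base.exists_memAt c
        obtain ⟨z, hz, hza⟩ := D.exists_sq a ((mem_memGroup h).2 (Or.inr ha))
        let n : N := ⟨g, hgN.1⟩
        have hw := hconjY n z hz
        have hsq : (g * z * g⁻¹) * (g * z * g⁻¹) = z * z := by
          rw [show g * z * g⁻¹ * (g * z * g⁻¹) = g * (z * z) * g⁻¹ by group, hza,
            ← (commute_cenAt h ((mem_memGroup h).2 (Or.inr ha)) hgN.2).eq, mul_inv_cancel_right]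
        set w := g * z * g⁻¹ with hwdef
        have hzw : Commute z w := D.comm z hz w hw
        have hb2 : (z⁻¹ * w) * (z⁻¹ * w) = 1 := by
          calc z⁻¹ * w * (z⁻¹ * w) = z⁻¹ * (w * z⁻¹) * w := by group
            _ = z⁻¹ * (z⁻¹ * w) * w := by rw [hzw.inv_left.eq]
            _ = z⁻¹ * z⁻¹ * (w * w) := by group
            _ = 1 := by rw [hsq]; group
        have hbE : z⁻¹ * w ∈ memGroup Z c := D.mem_of_sq _ (Y.mul_mem (Y.inv_mem hz) hw) hb2
        set b := z⁻¹ * w with hb
        have h3 : g * b * g⁻¹ = b := by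
          rw [← (commute_cenAt h hbE hgN.2).eq, mul_inv_cancel_right]
        have h4 : u * z * u⁻¹ = z := by
          rw [← h2, show g * g * z * (g * g)⁻¹ = g * w * g⁻¹ by rw [hwdef]; group,
            show w = z * b by rw [hb]; group,
            show g * (z * b) * g⁻¹ = g * z * g⁻¹ * (g * b * g⁻¹) by group, h3, ← hwdef,
            show w = z * b by rw [hb]; group, mul_assoc, memGroup_sq h hbE, mul_one]
        rw [D.inv z hz] at h4
        have h5 : z * z = 1 := by nth_rewrite 1 [← h4]; exact inv_mul_cancel z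
        exact ne_one_of_involution (h.crit.base.invol a ha.1) (hza ▸ h5)
  -- it is transitive on the other points
  let W' : Subgroup G := (W : Subgroup N₀).map N₀.subtype
  have hW'N : W' ≤ N₀ := Subgroup.map_subtype_le _
  have hW'2 : IsPGroup 2 W' := W.isPGroup'.map _
  have horb : ∀ y : Ω, y ≠ c → ∃ g ∈ W', g • x = y := by
    have hstab : Nat.card (stabilizer W' x) ≤ 2 := by
      let ι : stabilizer W' x → Bool := fun g => decide (((g : W') : G) = u)
      refine (Nat.card_le_card_of_injective ι fun g g' hgg => ?_).trans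
        (by rw [Nat.card_eq_fintype_card, Fintype.card_bool])
      have key : ∀ g : stabilizer W' x, ((g : W') : G) = 1 ∨ ((g : W') : G) = u := fun g => by
        obtain ⟨k, hk⟩ := hW'2 (g : W')
        exact hsmall k _ (hW'N g.1.2) g.2 (congrArg Subtype.val hk)
      refine Subtype.ext (Subtype.ext ?_)
      have hu1 : u ≠ 1 := ne_one_of_involution D.bad.1
      rcases key g with h1 | h1 <;> rcases key g' with h1' | h1' <;> simp [ι, h1, h1', hu1, Ne.symm hu1] at hgg ⊢
    have hcardW : 2 * (2 ^ e * 2 ^ e * 2 ^ e) ≤ Nat.card W' := by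
      rwa [Subgroup.card_map_of_injective N₀.subtype_injective]
    have h1 := Nat.card_congr (orbitProdStabilizerEquivGroup W' x)
    rw [Nat.card_prod, Nat.card_coe_set_eq] at h1
    have h2 : orbit W' x = ({c}ᶜ : Set Ω) := by
      refine Set.eq_of_subset_of_ncard_le ?_ ?_ (Set.toFinite _)
      · rintro _ ⟨g, rfl⟩ hgc
        exact D.ne (MulAction.injective (g : G)
          ((hgc : (g : G) • x = c).trans (cenAt_fix h (hW'N g.2).2).symm))
      · rw [Set.ncard_compl, Set.ncard_singleton, card_omega_eq h, Nat.add_sub_cancel]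
        have h3 : Nat.card W' ≤ (orbit W' x).ncard * 2 :=
          h1 ▸ Nat.mul_le_mul_left _ hstab
        omega
    intro y hy
    obtain ⟨⟨g, hg⟩, hgy⟩ := (h2 ▸ hy : y ∈ orbit W' x)
    exact ⟨g, hg, hgy⟩
  -- the field part of the pair stabiliser
  let D₀ : Subgroup (stabilizer G c) := (stabilizer G x).subgroupOf (stabilizer G c)
  letI : DistribMulAction D₀ (Additive (memGroup Z c)) :=
    { smul := fun d v => Additive.ofMul (ρ d v.toMul)
      one_smul := fun v => congrArg Additive.ofMul (by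
        show ρ ((1 : D₀) : stabilizer G c) v.toMul = v.toMul
        rw [OneMemClass.coe_one, map_one, MulAut.one_apply])
      mul_smul := fun d d' v => congrArg Additive.ofMul (by
        show ρ ((d * d' : D₀) : stabilizer G c) v.toMul = ρ d (ρ d' v.toMul)
        rw [Subgroup.coe_mul, map_mul, MulAut.mul_apply])
      smul_zero := fun d => congrArg Additive.ofMul (map_one _)
      smul_add := fun d v w => congrArg Additive.ofMul (map_mul _ _ _) }
  let TJ : Set D₀ := {d | ((d : stabilizer G c) : G) ∈ J}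
  have hgal : HasGaloisHom D₀ (Additive (memGroup Z c)) :=
    hasGaloisHom_of_abelian_transitive hexp TJ
      (fun d t ht => ⟨d * t * d⁻¹, D.torus.norm _ d.1.2 d.2 _ ht, fun v => by
        rw [smul_smul, smul_smul, inv_mul_cancel_right]⟩)
      (fun s hs t ht v => by
        rw [smul_smul, smul_smul, show s * t = t * s from
          Subtype.ext (Subtype.ext (hJcomm _ hs _ ht))])
      (fun v w hv hw => by
        obtain ⟨j, hj, hjvw⟩ := (D.torus.regular _ (hkey v hv)).surjOn (hkey w hw)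
        refine ⟨⟨⟨j, hJc j hj⟩, (D.torus.fix j hj).2⟩, hj, ?_⟩
        refine Additive.toMul.injective (Subtype.ext ?_)
        exact (hρ _ _).trans hjvw)
  obtain ⟨A, _, _, _, π, hπ⟩ := hgal.exists_hom
  -- extend it to the stabiliser
  have hsplit : ∀ g : stabilizer G c, ∃ d : D₀, ρ g = ρ d := by
    intro g
    obtain ⟨w, hw, hwx⟩ := horb ((g : G) • x) fun e' =>
      D.ne (MulAction.injective (g : G) (e'.trans (Eq.symm g.2)))
    have hwC := (hW'N hw).2
    refine ⟨⟨⟨w⁻¹ * (g : G), (stabilizer G c).mul_mem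
      ((stabilizer G c).inv_mem (cenAt_fix h hwC)) g.2⟩, ?_⟩, ?_⟩
    · show (w⁻¹ * (g : G)) • x = x
      rw [mul_smul, ← hwx, inv_smul_smul]
    · have h1 := (hρ1 ⟨w, cenAt_fix h hwC⟩).2 hwC
      conv_lhs => rw [show g = ⟨w, cenAt_fix h hwC⟩ * (⟨w⁻¹ * (g : G), (stabilizer G c).mul_mem
        ((stabilizer G c).inv_mem (cenAt_fix h hwC)) g.2⟩ : stabilizer G c) from
          Subtype.ext (by simp)]
      rw [map_mul, h1, one_mul]
  choose dg hdg using hsplit
  have hπwd : ∀ d d' : D₀, ρ d = ρ d' → π d = π d' := fun d d' hdd => by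
    have h1 : π (d⁻¹ * d') = 1 := by
      refine (hπ (d⁻¹ * d') 0 ?_).2 ?_ <;>
      · intro v
        try rw [pow_zero, pow_one]
        refine Additive.toMul.injective ?_
        show ρ ((d⁻¹ * d' : D₀) : stabilizer G c) v.toMul = v.toMul
        rw [Subgroup.coe_mul, Subgroup.coe_inv, map_mul, map_inv, hdd, inv_mul_cancel,
          MulAut.one_apply]
    rw [map_mul, map_inv, inv_mul_eq_one] at h1
    exact h1
  let φ : stabilizer G c →* A := MonoidHom.mk' (fun g => π (dg g)) fun g g' => by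
    rw [← map_mul]
    refine hπwd _ _ ?_
    rw [← hdg, map_mul, hdg g, hdg g', Subgroup.coe_mul, map_mul]
  have hφ : ∀ (a : G) (ha : a ∈ memAt Z c), φ ⟨a, ha.2⟩ = 1 := by
    intro a ha
    show π (dg ⟨a, ha.2⟩) = 1
    rw [← map_one π]
    refine hπwd _ _ ?_
    rw [← hdg, OneMemClass.coe_one, map_one]
    exact (hρ1 _).2 (memGroup_le_cenAt h ((mem_memGroup h).2 (Or.inr ha)))
  intro s hs
  set g : stabilizer G c := ⟨s, hSc s hs⟩ with hg
  obtain ⟨k, hk⟩ := S.isPGroup' ⟨s, hs⟩
  have hk' : g ^ 2 ^ k = 1 := Subtype.ext (by simpa using congrArg Subtype.val hk)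
  have h1 : π (dg g) = 1 := h.crit.base.hom_eq_one_of_two_elt h.crit.gen φ hφ g hk'
  refine (hρ1 g).1 (MulEquiv.ext fun b => ?_)
  have hpow : ∀ v : Additive (memGroup Z c), dg g ^ 2 ^ k • v = v := fun v => by
    refine Additive.toMul.injective ?_
    show ρ ((dg g ^ 2 ^ k : D₀) : stabilizer G c) v.toMul = v.toMul
    rw [SubgroupClass.coe_pow, map_pow, ← hdg, ← map_pow, hk', map_one, MulAut.one_apply]
  have h2 := congrArg Additive.toMul ((hπ (dg g) k hpow).1 h1 (Additive.ofMul b))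
  rw [hdg g, MulAut.one_apply]
  exact h2

end CfsgLib.StrongCrit.CentralOne
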