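import Cfsg.Agent.Lib.StrongCrit.CentralOne.Base

/-!
The central case of Aschbacher's criterion with fixed sets of `q + 1` points: a Sylow 2-subgroup
above `P` fixes `c`, is transitive on the other points and its bad involutions are those of `u Y`.
-/

set_option autoImplicit false

namespace CfsgLib.StrongCrit.CentralOne

open CfsgLib.Involutions CfsgLib.BenderTrans MulAction

universe u

variable {G : Type u} [Group G] [Finite G] {Ω : Type u} [MulAction G Ω] [Finite Ω] {Z : Set G}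
  {e : ℕ} (h : CentralCase Ω Z 1 e)

namespace CliqueData

omit [Finite G] [Finite Ω] in
/-- Some Sylow 2-subgroup contains `P`. -/
theorem exists_sylow {c x : Ω} {u : G} {P Y J : Subgroup G} (hD : CliqueData Ω Z c x u P Y J) :
    ∃ S : Sylow 2 G, P ≤ (S : Subgroup G) :=
  hD.isTwo.exists_le_sylow

variable {c x : Ω} {u : G} {P Y J : Subgroup G} (hD : CliqueData Ω Z c x u P Y J) {S : Sylow 2 G}
  (hPS : P ≤ (S : Subgroup G))
include h hD hPS

/-- The Sylow subgroup fixes `c`. -/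
theorem sylow_le_stabilizer : (S : Subgroup G) ≤ stabilizer G c := by
  obtain ⟨d, hd⟩ := h.crit.base.exists_fixed_point S.isPGroup' c
  obtain ⟨t, ht⟩ := h.crit.base.exists_memAt c
  obtain rfl : d = c := h.crit.base.unique t ht.1 d c
    (hd t (hPS (hD.le (hD.memGroup_le ((mem_memGroup h).2 (Or.inr ht)))))) ht.2
  exact fun g hg => mem_stabilizer_iff.2 (hd g hg)

/-- The Sylow subgroup is transitive on the other points. -/
theorem sylow_transitive {y y' : Ω} (hy : y ≠ c) (hy' : y' ≠ c) :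
    ∃ g ∈ (S : Subgroup G), g • y = y' := by
  classical
  have : Fact (Nat.Prime 2) := ⟨Nat.prime_two⟩
  have hS := hD.sylow_le_stabilizer h hPS
  set M := stabilizer G c with hM
  have hout : ∀ g ∈ M, g • y ≠ c := fun g hg e =>
    hy (MulAction.injective g (e.trans (mem_stabilizer_iff.1 hg).symm))
  have horb : orbit M y = {z : Ω | z ≠ c} := by
    refine Set.ext fun z => ⟨?_, fun hz => ?_⟩
    · rintro ⟨⟨g, hg⟩, rfl⟩
      exact hout g hg
    · obtain ⟨m, hmc, hm⟩ := twoTrans h c y z hy hz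
      exact ⟨⟨m, mem_stabilizer_iff.2 hmc⟩, hm⟩
  have hcardM : Nat.card M = 2 ^ e * 2 ^ e * 2 ^ e * Nat.card (stabilizer M y) := by
    have h2 := Set.ncard_sdiff_singleton_of_mem (Set.mem_univ c) (s := (Set.univ : Set Ω))
    rw [Set.ncard_univ, card_omega_eq h, Nat.add_sub_cancel] at h2
    have h3 : ({z : Ω | z ≠ c}) = Set.univ \ {c} := Set.ext fun z => by simp
    rw [← (stabilizer M y).index_mul_card, index_stabilizer, horb, h3, h2]
  have hsub : orbit (S : Subgroup G) y ⊆ {z : Ω | z ≠ c} := by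
    rintro _ ⟨⟨g, hg⟩, rfl⟩
    exact hout g (hS hg)
  have hcardS : Nat.card (S : Subgroup G) =
      (orbit (S : Subgroup G) y).ncard * Nat.card (stabilizer (S : Subgroup G) y) := by
    rw [← (stabilizer (S : Subgroup G) y).index_mul_card, index_stabilizer]
  obtain ⟨r, hr⟩ : Nat.card (stabilizer (S : Subgroup G) y) ∣ Nat.card (stabilizer M y) := by
    refine Subgroup.card_dvd_of_injective
      (((Subgroup.inclusion hS).comp (stabilizer (S : Subgroup G) y).subtype).codRestrict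
        (stabilizer M y) fun g => g.2) fun a b hab => ?_
    exact Subtype.ext (Subgroup.inclusion_injective hS (congrArg Subtype.val hab))
  have hidx : Nat.Coprime (2 ^ e * 2 ^ e * 2 ^ e) (S : Subgroup G).index := by
    rw [← pow_add, ← pow_add]
    exact Nat.Coprime.pow_left _
      (Nat.prime_two.coprime_iff_not_dvd.2 S.not_dvd_index)
  have h1 : (2 ^ e * 2 ^ e * 2 ^ e) ∣ (orbit (S : Subgroup G) y).ncard := by
    refine hidx.dvd_of_dvd_mul_right ⟨r * M.index, ?_⟩
    have h2 := (Subgroup.card_mul_index M).trans (Subgroup.card_mul_index (S : Subgroup G)).symm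
    rw [hcardM, hcardS, hr] at h2
    refine Nat.eq_of_mul_eq_mul_left
      (Nat.card_pos : 0 < Nat.card (stabilizer (S : Subgroup G) y)) ?_
    linarith
  have hy0 : 0 < (orbit (S : Subgroup G) y).ncard :=
    (Set.ncard_pos (Set.toFinite _)).2 ⟨y, mem_orbit_self y⟩
  have heq : orbit (S : Subgroup G) y = {z : Ω | z ≠ c} := by
    refine Set.eq_of_subset_of_ncard_le hsub ?_ (Set.toFinite _)
    have h2 := Set.ncard_sdiff_singleton_of_mem (Set.mem_univ c) (s := (Set.univ : Set Ω))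
    rw [Set.ncard_univ, card_omega_eq h, Nat.add_sub_cancel] at h2
    rw [show ({z : Ω | z ≠ c}) = Set.univ \ {c} from Set.ext fun z => by simp, h2]
    exact Nat.le_of_dvd hy0 h1
  obtain ⟨⟨g, hg⟩, hgy⟩ := heq.symm.subset (show y' ∈ {z : Ω | z ≠ c} from hy')
  exact ⟨g, hg, hgy⟩

/-- A bad involution of the Sylow subgroup fixing a point besides `c` is determined by it. -/
theorem bad_unique_fix {w w' : G} {y : Ω} (hyc : y ≠ c) (hw : w ∈ (S : Subgroup G))
    (hw' : w' ∈ (S : Subgroup G)) (hwb : IsBad Ω w) (hwb' : IsBad Ω w') (hwy : w • y = y)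
    (hwy' : w' • y = y) : w = w' := by
  have : Fact (Nat.Prime 2) := ⟨Nat.prime_two⟩
  have hS := hD.sylow_le_stabilizer h hPS
  set R : Subgroup G := (S : Subgroup G) ⊓ stabilizer G y with hR
  have hwR : w ∈ R := ⟨hw, hwy⟩
  have hR2 : IsPGroup 2 R := S.isPGroup'.to_le inf_le_left
  have : Nontrivial R := ⟨⟨⟨w, hwR⟩, 1, fun e => ne_one_of_involution hwb.1 (congrArg Subtype.val e)⟩⟩
  obtain ⟨z, hz⟩ : ∃ z : Subgroup.center R, orderOf z = 2 := by
    refine exists_prime_orderOf_dvd_card' 2 ?_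
    obtain ⟨n, hn⟩ := (hR2.to_subgroup (Subgroup.center R)).exists_card_eq
    haveI := hR2.center_nontrivial
    have h1 : 1 < Nat.card (Subgroup.center R) := Finite.one_lt_card
    rw [hn] at h1 ⊢
    exact dvd_pow_self 2 fun e => by rw [e, pow_zero] at h1; omega
  have hzb : IsBad Ω ((z : R) : G) :=
    ⟨by rw [Subgroup.orderOf_coe, Subgroup.orderOf_coe, hz], y, c, hyc, (z : R).2.2,
      mem_stabilizer_iff.1 (hS (z : R).2.1)⟩
  have key : ∀ {g : G}, g ∈ (S : Subgroup G) → IsBad Ω g → g • y = y → g = ((z : R) : G) := by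
    intro g hg hgb hgy
    have hgc : g • c = c := mem_stabilizer_iff.1 (hS hg)
    have hcomm : Commute g ((z : R) : G) :=
      congrArg Subtype.val (Subgroup.mem_center_iff.1 z.2 ⟨g, hg, hgy⟩)
    exact hD.noFour g _ hgb hzb hcomm y c hyc hgy hgc (z : R).2.2
      (mem_stabilizer_iff.1 (hS (z : R).2.1))
  rw [key hw hwb hwy, key hw' hwb' hwy']

/-- The bad involutions of the Sylow subgroup are those of `u Y`. -/
theorem exists_eq_mul {w : G} (hw : w ∈ (S : Subgroup G)) (hwb : IsBad Ω w) :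
    ∃ y ∈ Y, w = u * y := by
  classical
  have hS := hD.sylow_le_stabilizer h hPS
  set B : Set G := {w | w ∈ (S : Subgroup G) ∧ IsBad Ω w} with hB
  have hBc : ∀ w : B, (w : G) • c = c := fun w => mem_stabilizer_iff.1 (hS w.2.1)
  have hsub : (fun y => u * y) '' (Y : Set G) ⊆ B := by
    rintro _ ⟨y, hy, rfl⟩
    exact ⟨hPS (mul_mem hD.mem_u (hD.le hy)), hD.isBad_mul y hy⟩
  have hle : B.ncard * 2 ^ e ≤ 2 ^ e * 2 ^ e * 2 ^ e := by
    have : Fintype B := Fintype.ofFinite _
    let L : B → Set Ω := fun w => fixedBy Ω (w : G) \ {c}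
    have hL : ∀ w, (L w).ncard = 2 ^ e := fun w => by
      rw [Set.ncard_sdiff_singleton_of_mem (s := fixedBy Ω (w : G)) (hBc w), h.card_fix _ w.2.2,
        mul_one, Nat.add_sub_cancel]
    have hdis : Pairwise fun a b => Disjoint (L a) (L b) := fun a b hne =>
      Set.disjoint_left.2 fun y hya hyb => hne (Subtype.ext
        (hD.bad_unique_fix h hPS (fun e => hya.2 e) a.2.1 b.2.1 a.2.2 b.2.2 hya.1 hyb.1))
    have h1 := Set.ncard_iUnion_of_finite (s := L) (fun b => Set.toFinite _) hdis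
    rw [finsum_eq_sum_of_fintype, Finset.sum_congr rfl fun b _ => hL b, Finset.sum_const,
      Finset.card_univ, smul_eq_mul, ← Nat.card_eq_fintype_card, Nat.card_coe_set_eq] at h1
    rw [← h1]
    have h2 := Set.ncard_sdiff_singleton_of_mem (Set.mem_univ c) (s := (Set.univ : Set Ω))
    rw [Set.ncard_univ, card_omega_eq h, Nat.add_sub_cancel] at h2
    rw [← h2]
    exact Set.ncard_le_ncard (Set.iUnion_subset fun w z hz => ⟨trivial, hz.2⟩) (Set.toFinite _)
  have heq : (fun y => u * y) '' (Y : Set G) = B := by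
    refine Set.eq_of_subset_of_ncard_le hsub ?_ (Set.toFinite _)
    rw [Set.ncard_image_of_injective _ (mul_right_injective u), ← Nat.card_coe_set_eq (Y : Set G),
      SetLike.coe_sort_coe, hD.card_Y, card_memGroup h]
    exact Nat.le_of_mul_le_mul_right hle (Nat.two_pow_pos e)
  obtain ⟨y, hy, hyw⟩ := heq.symm.subset (⟨hw, hwb⟩ : w ∈ B)
  exact ⟨y, hy, hyw.symm⟩

/-- The Sylow subgroup normalises `Y`. -/
theorem conj_mem_Y {g y : G} (hg : g ∈ (S : Subgroup G)) (hy : y ∈ Y) : g * y * g⁻¹ ∈ Y := by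
  have hmem : ∀ {w : G}, w ∈ (S : Subgroup G) → g * w * g⁻¹ ∈ (S : Subgroup G) := fun hw =>
    mul_mem (mul_mem hg hw) (inv_mem hg)
  obtain ⟨y₁, hy₁, he₁⟩ := hD.exists_eq_mul h hPS (hmem (hPS (mul_mem hD.mem_u (hD.le hy))))
    (isBad_conj (hD.isBad_mul y hy) g)
  obtain ⟨y₂, hy₂, he₂⟩ := hD.exists_eq_mul h hPS (hmem (hPS hD.mem_u)) (isBad_conj hD.bad g)
  have h1 : g * y * g⁻¹ = y₂⁻¹ * y₁ := by
    calc g * y * g⁻¹ = (g * u * g⁻¹)⁻¹ * (g * (u * y) * g⁻¹) := by group
      _ = y₂⁻¹ * y₁ := by rw [he₁, he₂]; group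
  rw [h1]
  exact mul_mem (inv_mem hy₂) hy₁

/-- The Sylow subgroup normalises `P`. -/
theorem conj_mem_P {g k : G} (hg : g ∈ (S : Subgroup G)) (hk : k ∈ P) : g * k * g⁻¹ ∈ P := by
  rcases hD.mem_or k hk with hk' | hk'
  · exact hD.le (hD.conj_mem_Y h hPS hg hk')
  · obtain ⟨y₂, hy₂, he₂⟩ := hD.exists_eq_mul h hPS
      (mul_mem (mul_mem hg (hPS hD.mem_u)) (inv_mem hg)) (isBad_conj hD.bad g)
    have h1 : g * k * g⁻¹ = (g * u * g⁻¹)⁻¹ * (g * (u * k) * g⁻¹) := by group
    rw [h1, he₂]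
    exact mul_mem (inv_mem (mul_mem hD.mem_u (hD.le hy₂)))
      (hD.le (hD.conj_mem_Y h hPS hg hk'))

end CliqueData

end CfsgLib.StrongCrit.CentralOne
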