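import Cfsg.Agent.Lib.StrongCrit.CentralOne.Clique
import Cfsg.Agent.Lib.StrongCrit.CentralOne.Sylow
import Cfsg.Agent.Lib.StrongCrit.CentralOne.Det
import Cfsg.Agent.Lib.StrongCrit.CentralOne.FieldPart

/-!
The central case of Aschbacher's criterion does not occur with fixed sets of `q + 1` points.
-/

set_option autoImplicit false

namespace CfsgLib.StrongCrit

universe u

open CentralOne

/-- The central case does not occur with fixed sets of `q + 1` points. -/
theorem centralFalse_one : CentralFalse.{u} 1 := by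
  intro G _ _ Ω _ _ Z e h
  obtain ⟨w, hw⟩ := h.exists_bad
  obtain ⟨-, c, x, hne, hc, hx⟩ := id hw
  obtain ⟨P, Y, J, hD⟩ := exists_cliqueData h hne.symm hw hc hx
  obtain ⟨S, hS⟩ := hD.exists_sylow
  have hY := fun g (hg : g ∈ (S : Subgroup G)) y (hy : y ∈ Y) => hD.conj_mem_Y h hS hg hy
  have hbad := fun v (hv : v ∈ (S : Subgroup G)) (hb : IsBad Ω v) => hD.exists_eq_mul h hS hv hb
  rcases Nat.even_or_odd e with he | he
  · refine hD.false_of_le_cen' h S hY hbad (le_cenAt_of_clique h hD he S
      (fun g hg => hD.sylow_le_stabilizer h hS hg) (fun g hg p hp => hD.conj_mem_P h hS hg hp)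
      fun y hy => hD.sylow_transitive h hS hD.ne hy)
  · exact hD.false_of_odd' h S hY hbad he

end CfsgLib.StrongCrit
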