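import Cfsg.Agent.Lib.StrongCrit.CentralOne.Defs

/-!
The central case of Aschbacher's criterion with fixed sets of `q + 1` points: lines, elements fixing
a line, the torus of two points and the elements fixing only two points.
-/

set_option autoImplicit false

namespace CfsgLib.StrongCrit.CentralOne

open CfsgLib.Involutions CfsgLib.BenderTrans MulAction

universe u

variable {G : Type u} [Group G] [Finite G] {Ω : Type u} [MulAction G Ω] [Finite Ω] {Z : Set G}
  {e : ℕ} (h : CentralCase Ω Z 1 e)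

section
include h

theorem secComm : SecComm Ω Z := h.crit.secComm h.pure

theorem one_lt (c : Ω) : 1 < (memAt Z c).ncard :=
  h.crit.one_lt_memAt h.pure h.exists_bad c

theorem four_le : 4 ≤ 2 ^ e :=
  (Nat.pow_le_pow_right two_pos h.two_le : 2 ^ 2 ≤ 2 ^ e)

theorem mem_memGroup {c : Ω} {g : G} : g ∈ memGroup Z c ↔ g = 1 ∨ g ∈ memAt Z c :=
  h.crit.base.mem_memGroup_iff h.crit.faith h.comm

theorem card_memGroup (c : Ω) : Nat.card (memGroup Z c) = 2 ^ e := by
  rw [h.crit.base.card_memGroup h.crit.faith h.comm, h.card_mem]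

theorem memGroup_sq {c : Ω} {b : G} (hb : b ∈ memGroup Z c) : b * b = 1 :=
  h.crit.base.mul_self_memGroup h.crit.faith h.comm hb

theorem memGroup_inv {c : Ω} {b : G} (hb : b ∈ memGroup Z c) : b⁻¹ = b :=
  inv_eq_of_mul_eq_one_right (memGroup_sq h hb)

theorem memGroup_free {c x : Ω} {b : G} (hb : b ∈ memGroup Z c) (hxc : x ≠ c) (hbx : b • x = x) :
    b = 1 :=
  h.crit.base.eq_one_of_memGroup_fix h.crit.faith h.comm hb hbx hxc

theorem card_omega_eq : Nat.card Ω = 2 ^ e * 2 ^ e * 2 ^ e + 1 := by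
  rw [h.card_omega, mul_one]
  obtain ⟨m, hm⟩ := Nat.exists_eq_add_of_le (show 1 ≤ 2 ^ e from Nat.one_le_two_pow)
  rw [hm, Nat.add_sub_cancel_left]
  ring

theorem mem_cenAt {c : Ω} {g : G} : g ∈ cenAt Z c ↔ ∀ t ∈ memAt Z c, Commute g t := by
  refine ⟨fun hg t ht => ((Subgroup.mem_centralizer_iff.1 hg) t ((mem_memGroup h).2 (Or.inr ht))).symm,
    fun hg => Subgroup.mem_centralizer_iff.2 fun b hb => ?_⟩
  rcases (mem_memGroup h).1 hb with rfl | hb
  · rw [one_mul, mul_one]
  · exact (hg b hb).eq.symm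

theorem cenAt_fix {c : Ω} {g : G} (hg : g ∈ cenAt Z c) : g • c = c := by
  obtain ⟨t, ht⟩ := h.crit.base.exists_memAt c
  exact h.crit.base.fix_of_commute ht ((mem_cenAt h).1 hg t ht)

theorem commute_cenAt {c : Ω} {b g : G} (hb : b ∈ memGroup Z c) (hg : g ∈ cenAt Z c) :
    Commute b g :=
  Subgroup.mem_centralizer_iff.1 hg b hb

theorem memGroup_le_cenAt {c : Ω} : memGroup Z c ≤ cenAt Z c := fun _ hb =>
  Subgroup.mem_centralizer_iff.2 fun _ hb' =>
    (h.crit.base.commute_memGroup h.crit.faith h.comm hb' hb).eq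

theorem memGroup_fix {c : Ω} {b : G} (hb : b ∈ memGroup Z c) : b • c = c :=
  cenAt_fix h (memGroup_le_cenAt h hb)

theorem bad_mem_cenAt {c : Ω} {w : G} (hw : IsBad Ω w) (hwc : w • c = c) : w ∈ cenAt Z c :=
  (mem_cenAt h).2 (h.central w hw c hwc)

theorem conj_mem_memGroup {c : Ω} {g b : G} (hg : g • c = c) (hb : b ∈ memGroup Z c) :
    g * b * g⁻¹ ∈ memGroup Z c :=
  h.crit.base.conj_mem_memGroup hg hb

theorem conj_mem_cenAt {c : Ω} {g k : G} (hg : g • c = c) (hk : k ∈ cenAt Z c) :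
    g * k * g⁻¹ ∈ cenAt Z c := by
  refine Subgroup.mem_centralizer_iff.2 fun b hb => ?_
  have h1 := commute_cenAt h (conj_mem_memGroup h (g := g⁻¹) (inv_smul_eq_iff.2 hg.symm) hb) hk
  rw [inv_inv] at h1
  calc b * (g * k * g⁻¹) = g * ((g⁻¹ * b * g) * k) * g⁻¹ := by group
    _ = g * (k * (g⁻¹ * b * g)) * g⁻¹ := by rw [h1.eq]
    _ = g * k * g⁻¹ * b := by group

theorem isBad_mul {c : Ω} {w b : G} (hw : IsBad Ω w) (hwc : w • c = c) (hb : b ∈ memGroup Z c) :
    IsBad Ω (w * b) := by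
  rcases (mem_memGroup h).1 hb with rfl | hb'
  · rwa [mul_one]
  · exact h.crit.base.isBad_mul h.crit.faith hw hb'.1 (h.central w hw c hwc b hb')

theorem twoTrans : TwoTrans G Ω := h.crit.twoTrans h.pure h.exists_bad

/-- A bad involution at every two points. -/
theorem exists_bad_at {c x : Ω} (hxc : x ≠ c) :
    ∃ w : G, IsBad Ω w ∧ w • c = c ∧ w • x = x := by
  obtain ⟨w, hw⟩ := h.exists_bad
  obtain ⟨-, p, p', hpp, hp, hp'⟩ := id hw
  obtain ⟨g, hg⟩ := h.crit.base.trans p c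
  have hg' : g • p' ≠ c := fun e => hpp (MulAction.injective g (hg.trans e.symm))
  obtain ⟨m, hmc, hm⟩ := twoTrans h c (g • p') x hg' hxc
  refine ⟨m * g * w * (m * g)⁻¹, isBad_conj hw _, ?_, ?_⟩
  · have h1 : (m * g) • p = c := by rw [mul_smul, hg, hmc]
    rw [mul_smul, inv_smul_eq_iff.2 h1.symm, mul_smul, hp, h1]
  · have h1 : (m * g) • p' = x := by rw [mul_smul, hm]
    rw [mul_smul, inv_smul_eq_iff.2 h1.symm, mul_smul, hp', h1]

/-- The fixed points of a bad involution at `c` other than `c` are one orbit of the members. -/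
theorem exists_smul_eq_of_fixed {c x z : Ω} {w : G} (hw : IsBad Ω w) (hwc : w • c = c)
    (hwx : w • x = x) (hxc : x ≠ c) (hwz : w • z = z) (hzc : z ≠ c) :
    ∃ b ∈ memGroup Z c, b • x = z := by
  have hwC := bad_mem_cenAt h hw hwc
  have hsub : (fun b : memGroup Z c => (b : G) • x) '' Set.univ ⊆ fixedBy Ω w \ {c} := by
    rintro _ ⟨b, -, rfl⟩
    refine ⟨?_, fun hc => hxc (MulAction.injective (b : G) (hc.trans (memGroup_fix h b.2).symm))⟩
    show w • (b : G) • x = (b : G) • x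
    rw [smul_smul, ← (commute_cenAt h b.2 hwC).eq, mul_smul, hwx]
  have hinj : Function.Injective (fun b : memGroup Z c => (b : G) • x) := fun a b hab => by
    have h1 : ((b : G)⁻¹ * a) • x = x := by
      rw [mul_smul, show (a : G) • x = (b : G) • x from hab, inv_smul_smul]
    exact Subtype.ext (inv_mul_eq_one.1 (memGroup_free h (mul_mem (inv_mem b.2) a.2) hxc h1)).symm
  have hcard : (fixedBy Ω w \ {c}).ncard ≤
      ((fun b : memGroup Z c => (b : G) • x) '' Set.univ).ncard := by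
    rw [Set.ncard_image_of_injective _ hinj, Set.ncard_univ, card_memGroup h,
      Set.ncard_sdiff_singleton_of_mem (s := fixedBy Ω w) hwc, h.card_fix w hw, mul_one,
      Nat.add_sub_cancel]
  obtain ⟨b, -, hb⟩ := (Set.eq_of_subset_of_ncard_le hsub hcard (Set.toFinite _)).symm.subset
    (⟨hwz, hzc⟩ : z ∈ fixedBy Ω w \ {c})
  exact ⟨b, b.2, hb⟩

theorem smul_orbit {c x : Ω} {g b : G} (hg : g ∈ cenAt Z c) (hgx : g • x = x)
    (hb : b ∈ memGroup Z c) : g • b • x = b • x := by
  rw [smul_smul, ← (commute_cenAt h hb hg).eq, mul_smul, hgx]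

/-- An element centralising the members at `c` and fixing one other fixed point of a bad involution
at `c` fixes all of them. -/
theorem fix_of_fix {c x z : Ω} {w g : G} (hw : IsBad Ω w) (hwc : w • c = c) (hwx : w • x = x)
    (hxc : x ≠ c) (hg : g ∈ cenAt Z c) (hgx : g • x = x) (hwz : w • z = z) : g • z = z := by
  rcases eq_or_ne z c with rfl | hzc
  · exact cenAt_fix h hg
  obtain ⟨b, hb, rfl⟩ := exists_smul_eq_of_fixed h hw hwc hwx hxc hwz hzc
  exact smul_orbit h hg hgx hb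

/-- An element centralising the members at `c` and a bad involution there is, up to a member, in
the stabiliser of its fixed points. -/
theorem exists_mul_fix {c x : Ω} {w g : G} (hw : IsBad Ω w) (hwc : w • c = c) (hwx : w • x = x)
    (hxc : x ≠ c) (hg : g ∈ cenAt Z c) (hgw : Commute g w) :
    ∃ b ∈ memGroup Z c, (b * g) • x = x := by
  have h1 : g • x ≠ c := fun e => hxc (MulAction.injective g (e.trans (cenAt_fix h hg).symm))
  have h2 : w • g • x = g • x := by rw [smul_smul, ← hgw.eq, mul_smul, hwx]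
  obtain ⟨b, hb, hbx⟩ := exists_smul_eq_of_fixed h hw hwc hwx hxc h2 h1
  exact ⟨b, hb, by rw [mul_smul, ← hbx, smul_smul, memGroup_sq h hb, one_smul]⟩

/-- An element centralising the members at `c` and fixing another fixed point of a bad involution
centralises the members commuting with it. -/
theorem commute_memCent {c x : Ω} {w g : G} (hw : IsBad Ω w) (hwc : w • c = c) (hwx : w • x = x)
    (hxc : x ≠ c) (hg : g ∈ cenAt Z c) (hgx : g • x = x) {d : G} (hd : d ∈ memCent Z w) :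
    Commute g d := by
  have hle : memCent Z w ≤ Subgroup.centralizer {g} := by
    rw [memCent, Subgroup.closure_le]
    rintro t ⟨ht, hwt⟩
    obtain ⟨p, hp⟩ := h.crit.base.exists_fix t ht
    have hwp : w • p = p := h.crit.base.fix_of_commute ⟨ht, hp⟩ hwt
    have hgp : g • p = p := fix_of_fix h hw hwc hwx hxc hg hgx hwp
    have hmem : g * t * g⁻¹ ∈ memAt Z p := by
      have h1 := h.crit.base.conj_memAt (g := g) (⟨ht, hp⟩ : t ∈ memAt Z p)
      rwa [hgp] at h1
    have h1 := h.crit.eq_of_same (secComm h) (one_lt h) hw hwp (b := t)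
      ⟨hmem, h.central w hw p hwp _ hmem⟩ ⟨⟨ht, hp⟩, hwt⟩ fun z hz => by
        have hgz : g • z = z := fix_of_fix h hw hwc hwx hxc hg hgx hz
        have htz : w • t • z = t • z := by rw [smul_smul, hwt.eq, mul_smul, hz]
        rw [mul_smul, mul_smul, inv_smul_eq_iff.2 hgz.symm,
          fix_of_fix h hw hwc hwx hxc hg hgx htz]
    exact Subgroup.mem_centralizer_singleton_iff.2 (mul_inv_eq_iff_eq_mul.1 h1).symm
  exact (Subgroup.mem_centralizer_singleton_iff.1 (hle hd)).symm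

theorem commute_member {c x : Ω} {g a : G} (hxc : x ≠ c) (hg : g ∈ cenAt Z c) (hgx : g • x = x)
    (ha : a ∈ memAt Z x) : Commute g a := by
  obtain ⟨w, hw, hwc, hwx⟩ := exists_bad_at h hxc
  exact commute_memCent h hw hwc hwx hxc hg hgx
    (Subgroup.subset_closure ⟨ha.1, h.central w hw x hwx a ha⟩)

/-- Every member interchanging two fixed points of a bad involution commutes with it. -/
theorem commute_swap {c x : Ω} {w s : G} (hw : IsBad Ω w) (hwc : w • c = c) (hwx : w • x = x)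
    (hxc : x ≠ c) (hs : s ∈ swapMem Z c x) : Commute w s := by
  obtain ⟨h1, -⟩ := h.crit.ncard_swap_commute (secComm h) (one_lt h) hw hwc hwx hxc
  have hB : bMem Z c w = memAt Z c :=
    Set.ext fun a => ⟨And.left, fun ha => ⟨ha, h.central w hw c hwc a ha⟩⟩
  have h2 : {t | t ∈ swapMem Z c x ∧ Commute w t} = swapMem Z c x :=
    Set.eq_of_subset_of_ncard_le (fun t ht => ht.1) (by
      rw [h1, hB, h.crit.base.ncard_swapMem hxc.symm]) (Set.toFinite _)
  exact (h2.symm.subset hs).2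

/-- The torus of two points. -/
theorem exists_torusAt {c x : Ω} (hxc : x ≠ c) : ∃ J : Subgroup G, TorusAt Ω Z c x J := by
  obtain ⟨w, hw, hwc, hwx⟩ := exists_bad_at h hxc
  obtain ⟨r, hr, hwr⟩ := h.crit.base.exists_swap_centralized (isPGroup_zpowers hw.1) hxc.symm
    fun g hg => Or.inl ⟨mem_stabilizer_iff.1 (Subgroup.zpowers_le.2 (mem_stabilizer_iff.2 hwc) hg),
      mem_stabilizer_iff.1 (Subgroup.zpowers_le.2 (mem_stabilizer_iff.2 hwx) hg)⟩
  have hwr' : Commute w r := hwr w (Subgroup.mem_zpowers w)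
  have hr' : r ∈ swapMem Z x c := ⟨hr.1, h.crit.base.swap_symm hr⟩
  obtain ⟨J, hJ, hcyc, hcard, hle, hreg⟩ :=
    h.crit.exists_torus (secComm h) (one_lt h) hw hwc hwx hxc hr hwr'
  obtain ⟨J', hJ', -, -, -, hreg'⟩ :=
    h.crit.exists_torus (secComm h) (one_lt h) hw hwx hwc hxc.symm hr' hwr'
  have hJJ : (J' : Set G) = (J : Set G) := by
    rw [hJ, hJ']
    exact Set.ext fun d => ⟨fun ⟨a, b, k, l⟩ => ⟨a, k, b, l⟩, fun ⟨a, b, k, l⟩ => ⟨a, k, b, l⟩⟩
  rw [hJJ] at hreg'
  have hB : ∀ p : Ω, w • p = p → bMem Z p w = memAt Z p := fun p hp =>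
    Set.ext fun a => ⟨And.left, fun ha => ⟨ha, h.central w hw p hp a ha⟩⟩
  rw [hB c hwc] at hreg hcard
  rw [hB x hwx] at hreg'
  have hri : r⁻¹ = r := inv_eq_self_of_involution (h.crit.base.invol r hr.1)
  have hrr : r * r = 1 := mul_self_eq_one (h.crit.base.invol r hr.1)
  have hset : (J : Set G) = (fun s => s * r) '' swapMem Z c x := by
    refine (Set.eq_of_subset_of_ncard_le ?_ ?_ (Set.toFinite _)).symm
    · rintro _ ⟨s, hs, rfl⟩
      rw [hJ]
      refine ⟨mul_mem (Subgroup.subset_closure ⟨hs.1, commute_swap h hw hwc hwx hxc hs⟩)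
        (Subgroup.subset_closure ⟨hr.1, hwr'⟩), ?_, ?_, ?_⟩
      · rw [mul_smul, hr.2, h.crit.base.swap_symm hs]
      · rw [mul_smul, h.crit.base.swap_symm hr, hs.2]
      · rw [mul_inv_rev, hri, inv_eq_self_of_involution (h.crit.base.invol s hs.1)]
        simp [mul_assoc, hrr]
    · rw [Set.ncard_image_of_injective _ (mul_left_injective r), h.crit.base.ncard_swapMem hxc.symm,
        ← hcard, ← Nat.card_coe_set_eq]
      rfl
  have hex : ∀ j ∈ J, ∃ s ∈ swapMem Z c x, j = s * r := fun j hj => by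
    obtain ⟨s, hs, e⟩ := hset.subset hj
    exact ⟨s, hs, e.symm⟩
  refine ⟨J, hcyc, hcard, fun j hj => ?_, hreg, hreg', fun v hv hvc hvx j hj => ?_,
    fun d hdc hdx j hj => ?_, fun g hg hgx j hj => commute_memCent h hw hwc hwx hxc hg hgx (hle hj)⟩
  · obtain ⟨-, h1, h2, -⟩ := hJ.subset hj
    exact ⟨h1, h2⟩
  · obtain ⟨s, hs, rfl⟩ := hex j hj
    exact (commute_swap h hv hvc hvx hxc hs).mul_right (commute_swap h hv hvc hvx hxc hr)
  · obtain ⟨s, hs, rfl⟩ := hex j hj
    have hconj : ∀ t ∈ swapMem Z c x, d * t * d⁻¹ * r ∈ J := fun t ht => by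
      refine hset.symm.subset ⟨_, ⟨h.crit.base.conj_mem d t ht.1, ?_⟩, rfl⟩
      rw [mul_smul, mul_smul, inv_smul_eq_iff.2 hdc.symm, ht.2, hdx]
    have h2 := J.mul_mem (hconj s hs) (J.inv_mem (hconj r hr))
    have h3 : d * s * d⁻¹ * r * (d * r * d⁻¹ * r)⁻¹ = d * (s * r⁻¹) * d⁻¹ := by group
    rwa [h3, hri] at h2

/-- An element fixing `c` and `x`, commuting with a bad involution there, centralising no member at
either point and fixing no other fixed point of it fixes no other point. -/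
theorem fixed_only {c x : Ω} {w g : G} (hw : IsBad Ω w) (hwc : w • c = c) (hgw : Commute g w)
    (hca : ∀ a ∈ memAt Z c, ¬ Commute g a) (hxa : ∀ a ∈ memAt Z x, ¬ Commute g a)
    (hfix : ∀ p : Ω, w • p = p → g • p = p → p = c ∨ p = x) {y : Ω} (hgy : g • y = y) :
    y = c ∨ y = x := by
  by_cases hwy : w • y = y
  · exact hfix y hwy hgy
  exfalso
  obtain ⟨t, hT⟩ := Set.ncard_eq_one.1 (h.crit.base.ncard_swapCen_of_all h.comm hw hwc
    (h.central w hw c hwc) hwy)
  obtain ⟨⟨htZ, hty⟩, hwt⟩ : t ∈ swapCen Z w y := by rw [hT]; exact Set.mem_singleton t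
  have hgt : g * t * g⁻¹ ∈ swapCen Z w y := by
    refine ⟨⟨h.crit.base.conj_mem g t htZ, ?_⟩, (hgw.symm.mul_right hwt).mul_right hgw.symm.inv_right⟩
    rw [mul_smul, mul_smul, inv_smul_eq_iff.2 hgy.symm, hty, smul_smul, hgw.eq, mul_smul, hgy]
  rw [hT, Set.mem_singleton_iff] at hgt
  have hcm : Commute g t := mul_inv_eq_iff_eq_mul.1 hgt
  obtain ⟨d, hd⟩ := h.crit.base.exists_fix t htZ
  rcases hfix d (h.crit.base.fix_of_commute ⟨htZ, hd⟩ hwt)
    (h.crit.base.fix_of_commute ⟨htZ, hd⟩ hcm) with rfl | rfl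
  · exact hca t ⟨htZ, hd⟩ hcm
  · exact hxa t ⟨htZ, hd⟩ hcm

end

end CfsgLib.StrongCrit.CentralOne
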