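import Cfsg.Agent.Lib.StrongCrit.CentralOne.Top
import Cfsg.Agent.Lib.StrongCrit.CentralThree.Count

/-!
The central case of Aschbacher's criterion with fixed sets of `q + 1` points: the classes of bad
involutions in the Sylow group `P` are not closed under products, as a lift of the torus would then
fix a point of one of their lines.
-/

set_option autoImplicit false

namespace CfsgLib.StrongCrit.CentralOne

open CfsgLib.Involutions MulAction
open scoped commutatorElement

universe u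

variable {G : Type u} [Group G] [Finite G] {Ω : Type u} [MulAction G Ω] [Finite Ω] {Z : Set G}
  {e : ℕ} (h : CentralCase Ω Z 1 e)
include h

/-- A bad involution and its products with the members at one of its points fix `q ^ 2` points
besides it. -/
theorem ncard_lines {c : Ω} {t : G} (ht : IsBad Ω t) (htc : t • c = c) :
    {y : Ω | y ≠ c ∧ ∃ b ∈ memGroup Z c, (t * b) • y = y}.ncard = 2 ^ e * 2 ^ e := by
  classical
  have : Fintype (memGroup Z c) := Fintype.ofFinite _
  let L : memGroup Z c → Set Ω := fun b => fixedBy Ω (t * b) \ {c}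
  have hL : ∀ b, (L b).ncard = 2 ^ e := fun b => by
    have hb : (t * b) • c = c := by rw [mul_smul, memGroup_fix h b.2, htc]
    rw [Set.ncard_sdiff_singleton_of_mem (s := fixedBy Ω (t * b)) hb,
      h.card_fix _ (isBad_mul h ht htc b.2), mul_one, Nat.add_sub_cancel]
  have hset : {y : Ω | y ≠ c ∧ ∃ b ∈ memGroup Z c, (t * b) • y = y} = ⋃ b, L b := by
    ext y
    simp only [Set.mem_setOf_eq, Set.mem_iUnion]
    exact ⟨fun ⟨hyc, b, hb, hby⟩ => ⟨⟨b, hb⟩, hby, hyc⟩,
      fun ⟨b, hby, hyc⟩ => ⟨hyc, b, b.2, hby⟩⟩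
  have hdis : Pairwise fun a b => Disjoint (L a) (L b) := by
    intro a b hne
    refine Set.disjoint_left.2 fun y hya hyb => hne (Subtype.ext ?_)
    have h1 : (a : G) • y = (b : G) • y := by
      have ha : (t * a) • y = y := hya.1
      have hb : (t * b) • y = y := hyb.1
      rw [mul_smul] at ha hb
      exact MulAction.injective t (ha.trans hb.symm)
    exact (inv_mul_eq_one.1 (memGroup_free h (mul_mem (inv_mem b.2) a.2) (fun e => hya.2 e)
      (by rw [mul_smul, h1, inv_smul_smul]))).symm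
  rw [hset, Set.ncard_iUnion_of_finite (fun b => Set.toFinite _) hdis,
    finsum_eq_sum_of_fintype, Finset.sum_congr rfl fun b _ => hL b, Finset.sum_const,
    Finset.card_univ, smul_eq_mul, ← Nat.card_eq_fintype_card, card_memGroup h]

/-- **No closed system of classes**: two classes of bad involutions of `P` never have a bad
product for every pair. -/
theorem Top.false_of_closed {c x : Ω} {u : G} {V P J : Subgroup G} (hT : Top Ω Z c x u V P)
    (hJ : TorusAt Ω Z c x J)
    (hcl : ∀ t ∈ P, ∀ t' ∈ P, IsBad Ω t → IsBad Ω t' → ⁅t, u⁆ ≠ 1 → ⁅t', u⁆ ≠ 1 →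
      ⁅t, u⁆ ≠ ⁅t', u⁆ → IsBad Ω (t * t')) : False := by
  classical
  have hu : IsBad Ω u := hT.max.isBad h hT.ne hT.max.mem_u hT.max.ne_one
  have hux : u • x = x := hT.max.fix u hT.max.mem_u
  have huC : u ∈ cenAt Z c := hT.max.le_cen hT.max.mem_u
  have huc : u • c = c := cenAt_fix h huC
  obtain ⟨a₀, ha₀⟩ := h.crit.base.exists_memAt c
  obtain ⟨t₀, ht₀, htb₀, htc₀, htu₀⟩ := hT.onto u hT.max.mem_u hT.max.ne_one a₀
    ((mem_memGroup h).2 (Or.inr ha₀)) (ne_one_of_involution (h.crit.base.invol a₀ ha₀.1))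
  have hne₀ : ⁅t₀, u⁆ ≠ 1 := htu₀.symm ▸ ne_one_of_involution (h.crit.base.invol a₀ ha₀.1)
  set X : Set Ω := {y : Ω | y ≠ c ∧ ∃ b ∈ memGroup Z c, (t₀ * b) • y = y} with hX
  have hxX : x ∉ X := by
    rintro ⟨-, b, hb, hbx⟩
    have hbC := memGroup_le_cenAt h hb
    have h1 : ⁅t₀ * b, u⁆ = ⁅t₀, u⁆ := by
      rw [comm_mul h (hT.mem_cen h ht₀) (by rw [comm_memGroup h hb huC]; exact one_mem _)
        (hT.comm_memGroup_u h ht₀ hT.max.mem_u), comm_memGroup h hb huC, mul_one]
    refine hne₀ (h1 ▸ memGroup_free h (h1.symm ▸ hT.comm_memGroup_u h ht₀ hT.max.mem_u) hT.ne ?_)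
    rw [commutatorElement_def, mul_smul, inv_smul_eq_iff.2 hux.symm, mul_smul,
      inv_smul_eq_iff.2 hbx.symm, mul_smul, hux, hbx]
  -- every line of a class of `P` lies in `X`
  have hline : ∀ s ∈ P, IsBad Ω s → ⁅s, u⁆ ≠ 1 → ∀ y : Ω, s • y = y → y ≠ c → y ∈ X := by
    intro s hs hsb hsu y hsy hyc
    have hts : Commute t₀ s := by
      by_cases heq : ⁅t₀, u⁆ = ⁅s, u⁆
      · obtain ⟨b, hb, rfl⟩ := hT.bad_unique h ht₀ hs htb₀ hsb heq hne₀
        exact (Commute.refl t₀).mul_right (commute_cenAt h hb (hT.mem_cen h ht₀)).symm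
      · have h2 := mul_self_eq_one (hcl t₀ ht₀ s hs htb₀ hsb hne₀ hsu heq).1
        have hti := inv_eq_self_of_involution htb₀.1
        have hsi := inv_eq_self_of_involution hsb.1
        show t₀ * s = s * t₀
        rw [eq_inv_of_mul_eq_one_left h2, mul_inv_rev, hti, hsi]
    obtain ⟨b, hb, hby⟩ := exists_mul_fix h hsb (cenAt_fix h (hT.mem_cen h hs)) hsy hyc
      (hT.mem_cen h ht₀) hts
    exact ⟨hyc, b, hb, by rw [← (commute_cenAt h hb (hT.mem_cen h ht₀)).eq]; exact hby⟩
  -- a lift of an element of odd prime order of the torus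
  have hq := four_le h
  have hJcard : Nat.card J = 2 ^ e - 1 := by
    rw [hJ.card_eq]; have := h.card_mem c; omega
  obtain ⟨p, hp, hpd⟩ := Nat.exists_prime_and_dvd (show 2 ^ e - 1 ≠ 1 by omega)
  have : Fact p.Prime := ⟨hp⟩
  have hp2 : p ≠ 2 := by
    rintro rfl
    obtain ⟨r, hr⟩ : 2 ∣ 2 ^ e := dvd_pow_self 2 (by have := h.two_le; omega)
    obtain ⟨r', hr'⟩ := hpd
    omega
  obtain ⟨⟨j, hj⟩, hjo⟩ := exists_prime_orderOf_dvd_card' (G := J) p (hJcard.symm ▸ hpd)
  rw [Subgroup.orderOf_mk] at hjo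
  obtain ⟨k, hk, hkx, hkV, hkP⟩ := hT.exists_normalize h hJ hj
  obtain ⟨hjc, hjx⟩ := hJ.fix j hj
  set g := k * j with hg
  have hgc : g • c = c := by rw [hg, mul_smul, hjc, cenAt_fix h hk]
  have hgu : Commute g u :=
    (hkV u hT.max.mem_u).mul_left (hJ.commute u hu huc hux j hj).symm
  have hgX : ∀ y ∈ X, g • y ∈ X := by
    rintro y ⟨hyc, b, hb, hby⟩
    have hgc' : g • y ≠ c := fun e => hyc (MulAction.injective g (e.trans hgc.symm))
    have hsP : g * (t₀ * b) * g⁻¹ ∈ P := hkP _ (P.mul_mem ht₀ (hT.le_E hb))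
    refine hline _ hsP (isBad_conj (isBad_mul h htb₀ htc₀ hb) g) (fun h1 => ?_) _ ?_ hgc'
    · have h2 : ⁅g * (t₀ * b) * g⁻¹, g * u * g⁻¹⁆ = 1 := by
        rw [hgu.eq, mul_inv_cancel_right]; exact h1
      rw [← conjugate_commutatorElement, conj_eq_one_iff,
        comm_mul h (hT.mem_cen h ht₀) (by rw [comm_memGroup h hb huC]; exact one_mem _)
          (hT.comm_memGroup_u h ht₀ hT.max.mem_u), comm_memGroup h hb huC, mul_one] at h2
      exact hne₀ h2
    · rw [smul_smul, inv_mul_cancel_right, mul_smul, hby]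
  obtain ⟨i, m, hm, hgm⟩ :=
    Nat.exists_eq_pow_mul_and_not_dvd (orderOf_pos g).ne' p hp.ne_one
  set g' := g ^ m with hg'
  have hg'o : ∃ i : ℕ, orderOf g' = p ^ i := by
    obtain ⟨i', -, hi'⟩ := (Nat.dvd_prime_pow hp).1 (orderOf_dvd_of_pow_eq_one
      (show g' ^ p ^ i = 1 by rw [hg', ← pow_mul, mul_comm m, ← hgm, pow_orderOf_eq_one]))
    exact ⟨i', hi'⟩
  have hg'X : ∀ y ∈ X, g' • y ∈ X := by
    intro y hy
    have hall : ∀ n : ℕ, g ^ n • y ∈ X := fun n => by
      induction n with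
      | zero => rwa [pow_zero, one_smul]
      | succ n ih => rw [pow_succ', mul_smul]; exact hgX _ ih
    exact hall m
  obtain ⟨y, hy, hgy⟩ := CentralThree.exists_fixed_point_of_pow hg'o hg'X (by
    rw [hX, ncard_lines h htb₀ htc₀]
    intro hd
    exact hp2 ((Nat.prime_dvd_prime_iff_eq hp Nat.prime_two).1
      ((hp.dvd_mul.1 hd).elim hp.dvd_of_dvd_pow hp.dvd_of_dvd_pow)))
  have hjm : j ^ m ≠ 1 := fun e => hm (hjo ▸ orderOf_dvd_of_pow_eq_one e)
  -- `g'` moves every member at `c` and at `x`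
  have hmove : ∀ (d : Ω) (a : G), a ∈ memAt Z d → (∀ b ∈ memAt Z d, Commute k b) →
      j • d = d → Set.InjOn (fun d => d * a * d⁻¹) (J : Set G) → ¬ Commute g' a := by
    intro d a ha hkd hjd hinj hga
    have hpow : ∀ (n : ℕ) (b : G), b ∈ memAt Z d →
        g ^ n * b * (g ^ n)⁻¹ = j ^ n * b * (j ^ n)⁻¹ := by
      intro n
      induction n with
      | zero => intro b _; simp
      | succ n ih =>
        intro b hb
        have hb' : j * b * j⁻¹ ∈ memAt Z d := by
          have := h.crit.base.conj_memAt (g := j) hb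
          rwa [hjd] at this
        have h1 : g * b * g⁻¹ = j * b * j⁻¹ := by
          rw [hg, show k * j * b * (k * j)⁻¹ = k * (j * b * j⁻¹) * k⁻¹ by group,
            (hkd _ hb').eq, mul_inv_cancel_right]
        calc g ^ (n + 1) * b * (g ^ (n + 1))⁻¹ = g ^ n * (g * b * g⁻¹) * (g ^ n)⁻¹ := by group
          _ = j ^ n * (j * b * j⁻¹) * (j ^ n)⁻¹ := by rw [h1, ih _ hb']
          _ = j ^ (n + 1) * b * (j ^ (n + 1))⁻¹ := by group
    refine hjm (hinj (J.pow_mem hj m) (J.one_mem) ?_)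
    show j ^ m * a * (j ^ m)⁻¹ = 1 * a * (1 : G)⁻¹
    rw [← hpow m a ha, ← hg', hga.eq, mul_inv_cancel_right, one_mul, inv_one, mul_one]
  have hmc : ∀ a ∈ memAt Z c, ¬ Commute g' a := fun a ha =>
    hmove c a ha (fun b hb => (commute_cenAt h ((mem_memGroup h).2 (Or.inr hb)) hk).symm) hjc
      (hJ.regular a ha).injOn
  have hmx : ∀ a ∈ memAt Z x, ¬ Commute g' a := fun a ha =>
    hmove x a ha (fun b hb => commute_member h hT.ne hk hkx hb) hjx (hJ.regular' a ha).injOn
  have hg'c : g' • c = c :=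
    mem_stabilizer_iff.1 ((stabilizer G c).pow_mem (mem_stabilizer_iff.2 hgc) m)
  have hgx' : g' • x = x := mem_stabilizer_iff.1 ((stabilizer G x).pow_mem
    (mem_stabilizer_iff.2 (by rw [hg, mul_smul, hjx, hkx])) m)
  have hfix : ∀ z : Ω, u • z = z → g' • z = z → z = c ∨ z = x := by
    intro z huz hgz
    rcases eq_or_ne z c with hzc | hzc
    · exact Or.inl hzc
    · obtain ⟨b, hb, rfl⟩ := exists_smul_eq_of_fixed h hu huc hux hT.ne huz hzc
      refine Or.inr ?_
      rcases (mem_memGroup h).1 hb with rfl | hb'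
      · exact one_smul G x
      · exfalso
        refine hmc b hb' (mul_inv_eq_iff_eq_mul.1 (inv_mul_eq_one.1 (memGroup_free h
          (mul_mem (inv_mem hb) (conj_mem_memGroup h hg'c hb)) hT.ne ?_)).symm)
        rw [mul_smul, mul_smul, inv_smul_eq_iff.2 hgx'.symm, mul_smul, hgz, inv_smul_smul]
  rcases fixed_only h hu huc (hgu.pow_left m) hmc hmx hfix hgy with rfl | rfl
  · exact hy.1 rfl
  · exact hxX hy

end CfsgLib.StrongCrit.CentralOne
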