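import Cfsg.Agent.Lib.StrongCrit.CentralOne.Const
import Cfsg.Agent.Lib.StrongCrit.CentralOne.Closed

/-!
The central case of Aschbacher's criterion with fixed sets of `q + 1` points: two commuting bad
involutions with two common fixed points coincide, and the data `CliqueData` exist.
-/

set_option autoImplicit false

namespace CfsgLib.StrongCrit.CentralOne

open CfsgLib.Involutions MulAction
open scoped commutatorElement

universe u

variable {G : Type u} [Group G] [Finite G] {Ω : Type u} [MulAction G Ω] [Finite Ω] {Z : Set G}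
  {e : ℕ} (h : CentralCase Ω Z 1 e)
include h

/-- Members and the identity are not bad. -/
theorem not_isBad_memGroup {c : Ω} {g : G} (hg : g ∈ memGroup Z c) : ¬ IsBad Ω g := by
  rintro ⟨h2, p, q, hpq, hp, hq⟩
  have h1 : g ≠ 1 := (orderOf_eq_two_iff_mul.1 h2).1
  rcases eq_or_ne p c with rfl | hpc
  · exact h1 (memGroup_free h hg hpq.symm hq)
  · exact h1 (memGroup_free h hg hpc hp)

namespace Top

variable {c x : Ω} {u : G} {V P : Subgroup G} (hT : Top Ω Z c x u V P)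
include hT

theorem u_mem : u ∈ P := hT.le_V hT.max.mem_u

theorem u_bad : IsBad Ω u := hT.max.isBad h hT.ne hT.max.mem_u hT.max.ne_one

/-- The constant of the products is not the identity. -/
theorem exists_const_ne_one {J : Subgroup G} (hJ : TorusAt Ω Z c x J) :
    ∃ w₀ ∈ V, w₀ ≠ 1 ∧ ∀ t ∈ P, ∀ t' ∈ P, IsBad Ω t → IsBad Ω t' → ⁅t, u⁆ ≠ 1 → ⁅t', u⁆ ≠ 1 →
      ⁅t, u⁆ ≠ ⁅t', u⁆ → ∃ t'' ∈ P, IsBad Ω t'' ∧ ⁅t'', u⁆ = ⁅t, u⁆ * ⁅t', u⁆ ∧
        ∃ d ∈ memGroup Z c, t * t' = t'' * w₀ * d := by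
  obtain ⟨w₀, hw₀, hW⟩ := hT.exists_const h hJ
  refine ⟨w₀, hw₀, fun hw1 => hT.false_of_closed h hJ fun t ht t' ht' htb htb' htu htu' hne => ?_, hW⟩
  obtain ⟨t'', ht'', htb'', -, d, hd, htt⟩ := hW t ht t' ht' htb htb' htu htu' hne
  rw [htt, hw1, mul_one]
  exact isBad_mul h htb'' (cenAt_fix h (hT.mem_cen h ht'')) hd

/-- `V` has order two. -/
theorem eq_of_mem {v : G} (hv : v ∈ V) (hv1 : v ≠ 1) : v = u := by
  classical
  by_contra hvu
  obtain ⟨J, hJ⟩ := exists_torusAt h hT.ne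
  obtain ⟨w₀, hw₀, hw1, hW⟩ := hT.exists_const_ne_one h hJ
  have hu := hT.max.mem_u
  obtain ⟨a, ha, -, -, ha1, -, -⟩ := exists_two h c
  obtain ⟨z, hz, hzb, hzc, hzu⟩ := hT.onto u hu hT.max.ne_one a ha ha1
  have hzu1 : ⁅z, u⁆ ≠ 1 := hzu ▸ ha1
  obtain ⟨y, hzy, hyc⟩ : ∃ y, z • y = y ∧ y ≠ c := by
    obtain ⟨-, p, q, hpq, hp, hq⟩ := id hzb
    rcases eq_or_ne p c with rfl | hpc
    · exact ⟨q, hq, hpq.symm⟩
    · exact ⟨p, hp, hpc⟩
  -- an element of `P` commuting with `z`, neither a member nor `z` times one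
  obtain ⟨g, hg, hgz, hgE, hgzE⟩ : ∃ g ∈ P, Commute g z ∧ g ∉ memGroup Z c ∧ z * g ∉ memGroup Z c := by
    let β : P →* memGroup Z c :=
      MonoidHom.mk' (fun g => ⟨⁅(g : G), u⁆, hT.comm_memGroup_u h g.2 hu⟩) fun a b => Subtype.ext
        (comm_mul h (hT.mem_cen h a.2) (hT.comm_memGroup_u h b.2 hu) (hT.comm_memGroup_u h a.2 hu))
    let γ : P →* memGroup Z c :=
      MonoidHom.mk' (fun g => ⟨⁅(g : G), z⁆, hT.comm_mem h g.2 hz⟩) fun a b => Subtype.ext
        (comm_mul h (hT.mem_cen h a.2) (hT.comm_mem h b.2 hz) (hT.comm_mem h a.2 hz))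
    have hβ : β.range = ⊤ := by
      refine MonoidHom.range_eq_top.2 fun b => ?_
      obtain ⟨g, hg, hgb⟩ := hT.exists_mem_comm h b.2
      exact ⟨⟨g, hg⟩, Subtype.ext hgb⟩
    have hβker : 3 * 2 ^ e ≤ Nat.card β.ker := by
      have hset : ∀ w ∈ ({1, u, v} : Finset G), w ∈ V := by
        intro w hw
        simp only [Finset.mem_insert, Finset.mem_singleton] at hw
        rcases hw with rfl | rfl | rfl
        exacts [one_mem V, hu, hv]
      let F : ({1, u, v} : Finset G) × memGroup Z c → β.ker := fun p =>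
        ⟨⟨(p.1 : G) * p.2, mul_mem (hT.le_V (hset _ p.1.2)) (hT.le_E p.2.2)⟩, Subtype.ext
          (commutatorElement_eq_one_iff_commute.2 ((hT.max.comm (hset _ p.1.2) hu).mul_left
            (commute_cenAt h p.2.2 (hT.max.le_cen hu))))⟩
      have hF : Function.Injective F := by
        rintro ⟨⟨w, hw⟩, b⟩ ⟨⟨w', hw'⟩, b'⟩ hEq
        have h1 : w * (b : G) = w' * b' := congrArg (fun r : β.ker => ((r : P) : G)) hEq
        have h2 : w'⁻¹ * w = b' * (b : G)⁻¹ := by
          rw [eq_mul_inv_iff_mul_eq, mul_assoc, inv_mul_eq_iff_eq_mul]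
          exact h1
        obtain rfl := inv_mul_eq_one.1 (hT.max.eq_one_of_mem h hT.ne
          (mul_mem (inv_mem (hset _ hw')) (hset _ hw)) (h2 ▸ mul_mem b'.2 (inv_mem b.2)))
        exact Prod.ext rfl (Subtype.ext (mul_left_cancel h1))
      have h1 := Nat.card_le_card_of_injective F hF
      rw [Nat.card_prod, Nat.card_eq_finsetCard, card_memGroup h] at h1
      rwa [Finset.card_eq_three.2 ⟨1, u, v, hT.max.ne_one.symm, hv1.symm, Ne.symm hvu, rfl⟩] at h1
    have hP : Nat.card P = Nat.card β.ker * 2 ^ e := by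
      rw [← Subgroup.card_mul_index β.ker, Subgroup.index_ker, hβ, Subgroup.card_top, card_memGroup h]
    have hγ : Nat.card P ≤ Nat.card γ.ker * 2 ^ e := by
      rw [← Subgroup.card_mul_index γ.ker, Subgroup.index_ker, ← card_memGroup h c]
      exact Nat.mul_le_mul_left _ (Subgroup.card_le_card_group _)
    have hbig : 3 * 2 ^ e ≤ Nat.card γ.ker :=
      hβker.trans (Nat.le_of_mul_le_mul_right (hP ▸ hγ) (Nat.two_pow_pos e))
    by_contra hcon
    push Not at hcon
    have hsub : (fun r : γ.ker => ((r : P) : G)) '' Set.univ ⊆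
        (memGroup Z c : Set G) ∪ (fun b => z * b) '' (memGroup Z c : Set G) := by
      rintro _ ⟨r, -, rfl⟩
      have hr : Commute ((r : P) : G) z := commutatorElement_eq_one_iff_commute.1
        (congrArg Subtype.val r.2)
      by_cases hrE : ((r : P) : G) ∈ memGroup Z c
      · exact Or.inl hrE
      · refine Or.inr ⟨_, hcon _ (r : P).2 hr hrE, ?_⟩
        show z * (z * ((r : P) : G)) = (r : P)
        rw [← mul_assoc, mul_self_eq_one hzb.1, one_mul]
    have h1 := (Set.ncard_le_ncard hsub (Set.toFinite _)).trans (Set.ncard_union_le _ _)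
    rw [Set.ncard_image_of_injective _ fun a b hab => Subtype.ext (Subtype.ext hab), Set.ncard_univ,
      Set.ncard_image_of_injective _ (mul_right_injective z), ← Nat.card_coe_set_eq] at h1
    change Nat.card γ.ker ≤ Nat.card (memGroup Z c) + Nat.card (memGroup Z c) at h1
    rw [card_memGroup h] at h1
    have := Nat.two_pow_pos e
    omega
  -- translate it into the stabiliser of a fixed point of `z`
  obtain ⟨b, hb, hby⟩ := exists_mul_fix h hzb hzc hzy hyc (hT.mem_cen h hg) hgz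
  have step : ∀ r ∈ P, r • y = y → Commute r z → r ∉ memGroup Z c → IsBad Ω r ∧ ⁅r, u⁆ ≠ 1 := by
    intro r hr hry hrz hrE
    have h2 : r * r = 1 := memGroup_free h (hT.sq_mem h hr) hyc (by rw [mul_smul, hry, hry])
    refine ⟨⟨orderOf_eq_two_iff_mul.2 ⟨fun e => hrE (e ▸ one_mem _), h2⟩, y, c, hyc, hry,
      cenAt_fix h (hT.mem_cen h hr)⟩, fun e => ?_⟩
    obtain ⟨d, hd, hdv⟩ := hT.exists_mul_mem h hr (commutatorElement_eq_one_iff_commute.1 e)
    have h3 : Commute z (d * r) := (commute_cenAt h hd (hT.mem_cen h hz)).symm.mul_right hrz.symm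
    rcases eq_or_ne (d * r) 1 with h4 | h4
    · exact hrE (by rw [← inv_eq_of_mul_eq_one_right h4]; exact inv_mem hd)
    · exact hzu1 (commutatorElement_eq_one_iff_commute.2
        (hT.max.commute_all h hT.ne (hT.mem_near h hz) hdv h4 h3 u hu))
  set r := b * g with hrdef
  have hrP : r ∈ P := mul_mem (hT.le_E hb) hg
  have hrz : Commute r z := (commute_cenAt h hb (hT.mem_cen h hz)).mul_left hgz
  have hrE : r ∉ memGroup Z c := fun hr => hgE (by
    have h1 := mul_mem (inv_mem hb) hr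
    rwa [hrdef, inv_mul_cancel_left] at h1)
  have hzrE : z * r ∉ memGroup Z c := fun hr => hgzE (by
    have h1 := mul_mem (inv_mem hb) hr
    rwa [hrdef, ← mul_assoc z, ← (commute_cenAt h hb (hT.mem_cen h hz)).eq, mul_assoc b,
      inv_mul_cancel_left] at h1)
  obtain ⟨hrb, hru⟩ := step r hrP hby hrz hrE
  obtain ⟨hsb, hsu⟩ := step (r * z) (mul_mem hrP hz) (by rw [mul_smul, hzy, hby])
    (hrz.mul_left (Commute.refl z)) (hrz.eq ▸ hzrE)
  have hsum : ⁅r * z, u⁆ = ⁅r, u⁆ * ⁅z, u⁆ :=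
    comm_mul h (hT.mem_cen h hrP) (hT.comm_memGroup_u h hz hu) (hT.comm_memGroup_u h hrP hu)
  have hne : ⁅r, u⁆ ≠ ⁅z, u⁆ := fun e => hsu (by
    rw [hsum, e, memGroup_sq h (hT.comm_memGroup_u h hz hu)])
  obtain ⟨t, ht, htb, htu, d, hd, heq⟩ := hW r hrP z hz hrb hzb hru hzu1 hne
  obtain ⟨d', hd', ht'⟩ := hT.bad_unique h (mul_mem hrP hz) ht hsb htb (hsum.trans htu.symm) hsu
  refine hw1 (hT.max.eq_one_of_mem h hT.ne hw₀ ?_)
  have h5 : r * z * (d' * w₀ * d) = r * z * 1 := by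
    rw [mul_one]
    conv_rhs => rw [heq, ht']
    group
  have h6 := mul_left_cancel h5
  have h7 : w₀ = d'⁻¹ * d⁻¹ := by
    calc w₀ = d'⁻¹ * (d' * w₀ * d) * d⁻¹ := by group
      _ = _ := by rw [h6, mul_one]
  rw [h7]
  exact mul_mem (inv_mem hd') (inv_mem hd)

/-- An element of `P` centralising `u` is a member or `u` times one. -/
theorem mem_or_of_commute {g : G} (hg : g ∈ P) (hgu : Commute g u) :
    g ∈ memGroup Z c ∨ u * g ∈ memGroup Z c := by
  obtain ⟨b, hb, hbv⟩ := hT.exists_mul_mem h hg hgu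
  rcases eq_or_ne (b * g) 1 with h1 | h1
  · exact Or.inl (by rw [← inv_eq_of_mul_eq_one_right h1]; exact inv_mem hb)
  · refine Or.inr ?_
    have h2 : g = b⁻¹ * u := by rw [← hT.eq_of_mem h hbv h1, inv_mul_cancel_left]
    rw [h2, ← mul_assoc, ← (commute_cenAt h (inv_mem hb) (hT.max.le_cen hT.max.mem_u)).eq,
      mul_assoc, mul_self_eq_one (hT.u_bad h).1, mul_one]
    exact inv_mem hb

theorem comm_u_mul {g : G} (hg : g ∈ P) : ⁅u * g, u⁆ = ⁅g, u⁆ := by
  have h1 : ⁅u, u⁆ = (1 : G) := commutatorElement_eq_one_iff_commute.2 (Commute.refl u)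
  rw [comm_mul h (hT.max.le_cen hT.max.mem_u) (hT.comm_memGroup_u h hg hT.max.mem_u)
    (by rw [h1]; exact one_mem _), h1, one_mul]

/-- A bad `u * g` in `P` has `g` a member or outside the centraliser of `u`. -/
theorem mem_or_comm_ne_one {g : G} (hg : g ∈ P) (hb : IsBad Ω (u * g)) :
    g ∈ memGroup Z c ∨ ⁅g, u⁆ ≠ 1 :=
  or_iff_not_imp_right.2 fun h1 => ((hT.mem_or_of_commute h hg
    (commutatorElement_eq_one_iff_commute.1 (not_not.1 h1))).resolve_right
      fun h2 => not_isBad_memGroup h h2 hb)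

/-- The elements `y` with `u * y` bad form the group `Y`. -/
theorem exists_group {J : Subgroup G} (hJ : TorusAt Ω Z c x J) :
    ∃ Y : Subgroup G, ∀ g : G, g ∈ Y ↔ g ∈ P ∧ IsBad Ω (u * g) := by
  obtain ⟨w₀, hw₀, hw1, hW⟩ := hT.exists_const_ne_one h hJ
  obtain rfl := hT.eq_of_mem h hw₀ hw1
  have hu := hT.u_bad h
  have hu2 := mul_self_eq_one hu.1
  have huP := hT.u_mem h
  have hcen : ∀ {g : G}, g ∈ P → g ∈ cenAt Z c := fun hg => hT.mem_cen h hg
  have hbadmul : ∀ {s d : G}, s ∈ P → IsBad Ω s → d ∈ memGroup Z c → IsBad Ω (s * d) :=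
    fun hs hsb hd => isBad_mul h hsb (cenAt_fix h (hcen hs)) hd
  refine ⟨{ carrier := {g | g ∈ P ∧ IsBad Ω (w₀ * g)}
            one_mem' := ⟨one_mem P, by rw [mul_one]; exact hu⟩
            mul_mem' := ?_
            inv_mem' := ?_ }, fun g => Iff.rfl⟩
  · rintro g k ⟨hg, hgb⟩ ⟨hk, hkb⟩
    refine ⟨mul_mem hg hk, ?_⟩
    rcases hT.mem_or_comm_ne_one h hg hgb with hgE | hgu
    · rw [(commute_cenAt h hgE (hcen hk)).eq, ← mul_assoc]
      exact hbadmul (mul_mem huP hk) hkb hgE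
    rcases hT.mem_or_comm_ne_one h hk hkb with hkE | hku
    · rw [← mul_assoc]
      exact hbadmul (mul_mem huP hg) hgb hkE
    set s := w₀ * g with hs
    set s' := w₀ * k with hs'
    have hsP : s ∈ P := mul_mem huP hg
    have hsP' : s' ∈ P := mul_mem huP hk
    have hsu : ⁅s, w₀⁆ ≠ 1 := by rw [hs, hT.comm_u_mul h hg]; exact hgu
    have hsu' : ⁅s', w₀⁆ ≠ 1 := by rw [hs', hT.comm_u_mul h hk]; exact hku
    by_cases hne : ⁅s, w₀⁆ = ⁅s', w₀⁆
    · obtain ⟨d, hd, hd'⟩ := hT.bad_unique h hsP hsP' hgb hkb hne hsu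
      have h1 : k = g * d := mul_left_cancel (a := w₀) (by rw [← hs', hd', hs, mul_assoc])
      rw [h1, ← mul_assoc g]
      exact hbadmul huP hu (mul_mem (hT.sq_mem h hg) hd)
    obtain ⟨t, ht, htb, -, d, hd, hst⟩ := hW s hsP s' hsP' hgb hkb hsu hsu' hne
    have h1 : g * k = ⁅w₀, s⁆ * (t * w₀ * d) := by
      calc g * k = w₀ * s * w₀ * s' := by
            rw [hs, hs', mul_assoc (w₀ * (w₀ * g)), ← mul_assoc w₀ w₀ k, hu2, one_mul,
              ← mul_assoc w₀ w₀ g, hu2, one_mul]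
        _ = w₀ * s * w₀⁻¹ * s' := by rw [inv_eq_of_mul_eq_one_right hu2]
        _ = ⁅w₀, s⁆ * (s * s') := by rw [commutatorElement_def]; group
        _ = _ := by rw [hst]
    have hd1 := hT.comm_mem h huP hsP
    rw [h1, ← mul_assoc, ← (commute_cenAt h hd1 (hcen huP)).eq, mul_assoc]
    have h2 : w₀ * (t * w₀ * d) = t * (⁅t⁻¹, w₀⁆ * d) := by
      rw [commutatorElement_def, inv_inv, inv_eq_of_mul_eq_one_right hu2]
      group
    have hd2 := hT.comm_mem h (inv_mem ht) huP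
    rw [h2, ← mul_assoc, (commute_cenAt h hd1 (hcen ht)).eq, mul_assoc]
    exact hbadmul ht htb (mul_mem hd1 (mul_mem hd2 hd))
  · rintro g ⟨hg, hgb⟩
    refine ⟨inv_mem hg, ?_⟩
    have h1 : w₀ * g⁻¹ = w₀ * g * (g * g)⁻¹ := by group
    rw [h1]
    exact hbadmul (mul_mem huP hg) hgb (inv_mem (hT.sq_mem h hg))

end Top

/-- Two commuting bad involutions with two common fixed points coincide. -/
theorem noFour : NoFour (G := G) Ω := by
  intro a b ha hb hab c x hcx hac hax hbc hbx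
  obtain ⟨V, P, hT⟩ := exists_top h hcx.symm ha hac hax
  have hbV : b ∈ V := hT.max.maximal b (bad_mem_cenAt h hb hbc) hbx (mul_self_eq_one hb.1) fun v hv => by
    rcases eq_or_ne v 1 with rfl | hv1
    · exact Commute.one_right b
    · rw [hT.eq_of_mem h hv hv1]
      exact hab.symm
  exact (hT.eq_of_mem h hbV (orderOf_eq_two_iff_mul.1 hb.1).1).symm

/-- The data exist at every bad involution and two of its fixed points. -/
theorem exists_cliqueData {c x : Ω} {u : G} (hxc : x ≠ c) (hu : IsBad Ω u) (huc : u • c = c)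
    (hux : u • x = x) : ∃ P Y J : Subgroup G, CliqueData Ω Z c x u P Y J := by
  obtain ⟨J, hJ⟩ := exists_torusAt h hxc
  obtain ⟨V, P, hT⟩ := exists_top h hxc hu huc hux
  obtain ⟨Y, hY⟩ := hT.exists_group h hJ
  have hu2 := mul_self_eq_one hu.1
  have hui := inv_eq_of_mul_eq_one_right hu2
  have hinv : ∀ y ∈ Y, u * y * u⁻¹ = y⁻¹ := fun y hy => by
    have h1 := mul_self_eq_one ((hY y).1 hy).2.1
    rw [hui]
    refine (inv_eq_of_mul_eq_one_left ?_).symm
    rw [mul_assoc]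
    exact h1
  have hcomm : ∀ y ∈ Y, ∀ z ∈ Y, Commute y z := fun y hy z hz => by
    have h1 := hinv _ (Y.mul_mem hy hz)
    rw [show u * (y * z) * u⁻¹ = (u * y * u⁻¹) * (u * z * u⁻¹) by group, hinv y hy, hinv z hz] at h1
    have h2 := congrArg Inv.inv h1
    simp only [mul_inv_rev, inv_inv] at h2
    exact h2.symm
  have hsq : ∀ y ∈ Y, y * y = ⁅y, u⁆ := fun y hy => by
    have h1 : u * y⁻¹ * u⁻¹ = y := by
      rw [hinv y⁻¹ (Y.inv_mem hy), inv_inv]
    rw [commutatorElement_def, show y * u * y⁻¹ * u⁻¹ = y * (u * y⁻¹ * u⁻¹) by group, h1]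
  have hmos : ∀ y ∈ Y, y * y = 1 → y ∈ memGroup Z c := fun y hy h1 =>
    (hT.mem_or_comm_ne_one h ((hY y).1 hy).1 ((hY y).1 hy).2).resolve_right
      fun h2 => h2 ((hsq y hy).symm.trans h1)
  have hEY : memGroup Z c ≤ Y := fun b hb =>
    (hY b).2 ⟨hT.le_E hb, isBad_mul h hu huc hb⟩
  have hex : ∀ b ∈ memGroup Z c, ∃ y ∈ Y, y * y = b := by
    intro b hb
    rcases eq_or_ne b 1 with rfl | hb1
    · exact ⟨1, one_mem Y, one_mul 1⟩
    obtain ⟨t, ht, htb, -, htu⟩ := hT.onto u hT.max.mem_u hT.max.ne_one b hb hb1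
    have hy : u * t ∈ Y := (hY _).2 ⟨mul_mem (hT.u_mem h) ht, by rwa [← mul_assoc, hu2, one_mul]⟩
    exact ⟨u * t, hy, by rw [hsq _ hy, hT.comm_u_mul h ht, htu]⟩
  refine ⟨P, Y, J, hu, huc, hux, hxc, noFour h, hJ, hT.sylow.2.1, fun g hg => hT.mem_cen h hg,
    hT.u_mem h, fun g hg => ((hY g).1 hg).1, fun g hg => ?_, hEY, ?_, fun y hy => ((hY y).1 hy).2,
    hinv, hcomm, fun y hy => hT.sq_mem h ((hY y).1 hy).1, hmos, hex, fun j hj => ?_⟩
  · by_cases hgu : Commute g u
    · rcases hT.mem_or_of_commute h hg hgu with h1 | h1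
      · exact Or.inl (hEY h1)
      · exact Or.inr (hEY h1)
    have hg1 : ⁅g, u⁆ ≠ 1 := fun e => hgu (commutatorElement_eq_one_iff_commute.1 e)
    have hgE := hT.comm_memGroup_u h hg hT.max.mem_u
    obtain ⟨y, hy, hyy⟩ := hex _ hgE
    rw [hsq y hy] at hyy
    have hyP := ((hY y).1 hy).1
    have h2 : Commute (y⁻¹ * g) u := commutatorElement_eq_one_iff_commute.1 (by
      rw [comm_mul h (inv_mem (hT.mem_cen h hyP)) hgE
        (hT.comm_memGroup_u h (inv_mem hyP) hT.max.mem_u), comm_inv h (hT.mem_cen h hyP)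
        (hT.comm_memGroup_u h hyP hT.max.mem_u), hyy, memGroup_sq h hgE])
    rcases hT.mem_or_of_commute h (mul_mem (inv_mem hyP) hg) h2 with h1 | h1
    · exact Or.inl (by simpa using Y.mul_mem hy (hEY h1))
    · refine Or.inr ?_
      have h3 : u * g = y⁻¹ * (u * (y⁻¹ * g)) := by
        calc u * g = u * y * u⁻¹ * (u * (y⁻¹ * g)) := by group
          _ = _ := by rw [hinv y hy]
      rw [h3]
      exact Y.mul_mem (Y.inv_mem hy) (hEY h1)
  · let f : Y →* memGroup Z c :=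
      MonoidHom.mk' (fun y => ⟨(y : G) * y, hT.sq_mem h ((hY y).1 y.2).1⟩) fun a b => Subtype.ext (by
        show (a : G) * b * ((a : G) * b) = (a : G) * a * ((b : G) * b)
        exact (hcomm _ a.2 _ b.2).symm.mul_mul_mul_comm (a : G) (b : G))
    have hr : f.range = ⊤ := MonoidHom.range_eq_top.2 fun b => by
      obtain ⟨y, hy, hyb⟩ := hex b b.2
      exact ⟨⟨y, hy⟩, Subtype.ext hyb⟩
    have hk : f.ker = (memGroup Z c).subgroupOf Y := by
      ext y
      exact ⟨fun hy => hmos y y.2 (congrArg Subtype.val hy),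
        fun hy => Subtype.ext (memGroup_sq h hy)⟩
    rw [← Subgroup.card_mul_index f.ker, Subgroup.index_ker, hr, Subgroup.card_top, hk,
      Nat.card_congr (Subgroup.subgroupOfEquivOfLe hEY).toEquiv]
  · obtain ⟨k, hk, hkx, hkV, hkP⟩ := hT.exists_normalize h hJ hj
    exact ⟨k, hk, hkx, hkV u hT.max.mem_u, hkP⟩

end CfsgLib.StrongCrit.CentralOne
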