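import Cfsg.Agent.Lib.StrongCrit.CentralOne.Top

/-!
The central case of Aschbacher's criterion with fixed sets of `q + 1` points: modulo the members the
product of two bad involutions of `P` outside the centraliser of `u` is the third one times a fixed
element of `V`, as one sees by multiplying over the lifts of the torus.
-/

set_option autoImplicit false

namespace CfsgLib.StrongCrit.CentralOne

open CfsgLib.Involutions MulAction
open scoped commutatorElement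

universe u

variable {G : Type u} [Group G] [Finite G] {Ω : Type u} [MulAction G Ω] [Finite Ω] {Z : Set G}
  {e : ℕ} (h : CentralCase Ω Z 1 e)
include h

/-- Two different nontrivial members. -/
theorem exists_two (c : Ω) :
    ∃ a ∈ memGroup Z c, ∃ b ∈ memGroup Z c, a ≠ 1 ∧ b ≠ 1 ∧ a ≠ b := by
  obtain ⟨a, ha, b, hb, hab⟩ := (Set.one_lt_ncard (Set.toFinite _)).1 (one_lt h c)
  have hne : ∀ t ∈ memAt Z c, t ≠ 1 := fun t ht =>
    (orderOf_eq_two_iff_mul.1 (h.crit.base.invol t ht.1)).1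
  exact ⟨a, (mem_memGroup h).2 (Or.inr ha), b, (mem_memGroup h).2 (Or.inr hb), hne a ha, hne b hb,
    hab⟩

theorem conj_ne_one {g b : G} (hb : b ≠ 1) : g * b * g⁻¹ ≠ 1 := fun e =>
  hb (by
    calc b = g⁻¹ * (g * b * g⁻¹) * g := by group
      _ = 1 := by rw [e, mul_one, inv_mul_cancel])

namespace Top

variable {c x : Ω} {u : G} {V P : Subgroup G} (hT : Top Ω Z c x u V P)
include hT

/-- The products of two bad involutions of `P` outside the centraliser of `u` differ from the third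
by one element of `V`. -/
theorem exists_const {J : Subgroup G} (hJ : TorusAt Ω Z c x J) :
    ∃ w₀ ∈ V, ∀ t ∈ P, ∀ t' ∈ P, IsBad Ω t → IsBad Ω t' → ⁅t, u⁆ ≠ 1 → ⁅t', u⁆ ≠ 1 →
      ⁅t, u⁆ ≠ ⁅t', u⁆ → ∃ t'' ∈ P, IsBad Ω t'' ∧ ⁅t'', u⁆ = ⁅t, u⁆ * ⁅t', u⁆ ∧
        ∃ d ∈ memGroup Z c, t * t' = t'' * w₀ * d := by
  classical
  set E := memGroup Z c with hE
  set R : Subgroup P := E.subgroupOf P with hR
  have hRn : R.Normal := ⟨fun n hn g => conj_mem_memGroup h (cenAt_fix h (hT.mem_cen h g.2)) hn⟩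
  letI : CommGroup (P ⧸ R) :=
    { (inferInstance : Group (P ⧸ R)) with
      mul_comm := fun a b => by
        induction a using QuotientGroup.induction_on with
        | H a =>
          induction b using QuotientGroup.induction_on with
          | H b =>
            rw [← QuotientGroup.mk_mul, ← QuotientGroup.mk_mul, QuotientGroup.eq]
            show ((a : G) * b)⁻¹ * (b * a) ∈ E
            have h1 : ((a : G) * b)⁻¹ * (b * a) = ⁅(b : G)⁻¹, (a : G)⁻¹⁆ := by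
              rw [commutatorElement_def]; group
            rw [h1]
            exact hT.comm_mem h (inv_mem b.2) (inv_mem a.2) }
  have hsq : ∀ X : P ⧸ R, X * X = 1 := fun X => by
    induction X using QuotientGroup.induction_on with
    | H a =>
      rw [← QuotientGroup.mk_mul, QuotientGroup.eq_one_iff]
      exact hT.sq_mem h a.2
  have heq : ∀ (a b : P) (d : G), d ∈ E → (b : G) = a * d → (a : P ⧸ R) = b := fun a b d hd he => by
    rw [QuotientGroup.eq]
    show (a : G)⁻¹ * b ∈ E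
    rw [he, inv_mul_cancel_left]
    exact hd
  have hu := hT.max.mem_u
  -- the class of the bad involution in a fibre
  let T : G → P ⧸ R := fun b =>
    if hb : ∃ t : P, IsBad Ω (t : G) ∧ ⁅(t : G), u⁆ = b then (hb.choose : P ⧸ R) else 1
  have hTt : ∀ (t : G) (ht : t ∈ P), IsBad Ω t → ⁅t, u⁆ ≠ 1 →
      T ⁅t, u⁆ = ((⟨t, ht⟩ : P) : P ⧸ R) := by
    intro t ht htb htu
    have hex : ∃ s : P, IsBad Ω (s : G) ∧ ⁅(s : G), u⁆ = ⁅t, u⁆ := ⟨⟨t, ht⟩, htb, rfl⟩
    show (if hb : ∃ s : P, IsBad Ω (s : G) ∧ ⁅(s : G), u⁆ = ⁅t, u⁆ then (hb.choose : P ⧸ R) else 1) = _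
    rw [dif_pos hex]
    obtain ⟨h1, h2⟩ := hex.choose_spec
    obtain ⟨d, hd, hd'⟩ := hT.bad_unique h hex.choose.2 ht h1 htb h2 (h2.symm ▸ htu)
    exact heq _ _ d hd hd'
  have := Fintype.ofFinite J
  let f : G → P ⧸ R := fun b => ∏ j : J, T ((j : G) * b * (j : G)⁻¹)
  have hf : ∀ a ∈ E, ∀ b ∈ E, a ≠ 1 → b ≠ 1 → f a = f b := by
    intro a ha b hb ha1 hb1
    obtain ⟨j₀, hj₀, hj₀a⟩ := (hJ.regular a (((mem_memGroup h).1 ha).resolve_left ha1)).surjOn
      (((mem_memGroup h).1 hb).resolve_left hb1)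
    simp only at hj₀a
    subst hj₀a
    refine (Fintype.prod_equiv (Equiv.mulRight (⟨j₀, hj₀⟩ : J)) _ _ fun j => ?_).symm
    show T ((j : G) * (j₀ * a * j₀⁻¹) * (j : G)⁻¹) = T ((j : G) * j₀ * a * ((j : G) * j₀)⁻¹)
    congr 1
    group
  have hodd : Odd (Fintype.card J) := by
    rw [← Nat.card_eq_fintype_card, hJ.card_eq]
    exact h.crit.base.odd_ncard_memAt c
  -- the product of the equation over the torus
  have key : ∀ t ∈ P, ∀ t' ∈ P, IsBad Ω t → IsBad Ω t' → ⁅t, u⁆ ≠ 1 → ⁅t', u⁆ ≠ 1 →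
      ⁅t, u⁆ ≠ ⁅t', u⁆ → ∃ t'' ∈ P, IsBad Ω t'' ∧ ⁅t'', u⁆ = ⁅t, u⁆ * ⁅t', u⁆ ∧
        ∃ v : P, (v : G) ∈ V ∧ f ⁅t, u⁆ = (v : P ⧸ R) ∧
          ∃ d ∈ E, t * t' = t'' * v * d := by
    intro t ht t' ht' htb htb' ha hb hab
    have haE := hT.comm_memGroup_u h ht hu
    have hbE := hT.comm_memGroup_u h ht' hu
    have hab1 : ⁅t, u⁆ * ⁅t', u⁆ ≠ 1 := fun e => hab (by
      rw [← inv_eq_of_mul_eq_one_right e, memGroup_inv h haE])
    obtain ⟨t'', ht'', htb'', -, htu''⟩ :=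
      hT.onto u hu hT.max.ne_one _ (mul_mem haE hbE) hab1
    refine ⟨t'', ht'', htb'', htu'', ?_⟩
    have hcomm : Commute (t''⁻¹ * (t * t')) u := commutatorElement_eq_one_iff_commute.1 (by
      rw [comm_mul h (inv_mem (hT.mem_cen h ht'')) (hT.comm_memGroup_u h (mul_mem ht ht') hu)
        (hT.comm_memGroup_u h (inv_mem ht'') hu), comm_inv h (hT.mem_cen h ht'')
        (hT.comm_memGroup_u h ht'' hu), htu'', comm_mul h (hT.mem_cen h ht) hbE haE,
        memGroup_sq h (mul_mem haE hbE)])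
    have hmem : t''⁻¹ * (t * t') ∈ P := mul_mem (inv_mem ht'') (mul_mem ht ht')
    obtain ⟨d, hd, hv⟩ := hT.exists_mul_mem h hmem hcomm
    set v := d * (t''⁻¹ * (t * t')) with hvdef
    have htt : t * t' = t'' * v * d := by
      rw [mul_assoc t'', ← (commute_cenAt h hd (hT.max.le_cen hv)).eq, hvdef, ← mul_assoc d,
        memGroup_sq h hd, one_mul, mul_inv_cancel_left]
    refine ⟨⟨v, hT.le_V hv⟩, hv, ?_, d, hd, htt⟩
    have hterm : ∀ j : J, T ((j : G) * ⁅t, u⁆ * (j : G)⁻¹) * T ((j : G) * ⁅t', u⁆ * (j : G)⁻¹) =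
        T ((j : G) * (⁅t, u⁆ * ⁅t', u⁆) * (j : G)⁻¹) * ((⟨v, hT.le_V hv⟩ : P) : P ⧸ R) := by
      intro j
      obtain ⟨k, hk, -, hkV, hkP⟩ := hT.exists_normalize h hJ j.2
      set g := k * (j : G) with hg
      have hgv : ∀ w ∈ V, g * w * g⁻¹ = w := fun w hw => by
        have h1 : Commute (j : G) w := by
          rcases eq_or_ne w 1 with rfl | hw1
          · exact Commute.one_right _
          · exact (hJ.commute w (hT.max.isBad h hT.ne hw hw1) (cenAt_fix h (hT.max.le_cen hw))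
              (hT.max.fix w hw) j j.2).symm
        rw [hg, ((hkV w hw).mul_left h1).eq, mul_inv_cancel_right]
      have himg : ∀ s ∈ P, IsBad Ω s → ⁅s, u⁆ ≠ 1 → ∃ hs : g * s * g⁻¹ ∈ P,
          T ((j : G) * ⁅s, u⁆ * (j : G)⁻¹) = ((⟨g * s * g⁻¹, hs⟩ : P) : P ⧸ R) := by
        intro s hs hsb hsu
        refine ⟨hkP s hs, ?_⟩
        have h1 : ⁅g * s * g⁻¹, u⁆ = (j : G) * ⁅s, u⁆ * (j : G)⁻¹ := by
          conv_lhs => rw [← hgv u hu]
          rw [← conjugate_commutatorElement, hg]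
          have h2 : Commute k ((j : G) * ⁅s, u⁆ * (j : G)⁻¹) := (commute_cenAt h
            (conj_mem_memGroup h (hJ.fix j j.2).1 (hT.comm_memGroup_u h hs hu)) hk).symm
          calc k * (j : G) * ⁅s, u⁆ * (k * (j : G))⁻¹
              = k * ((j : G) * ⁅s, u⁆ * (j : G)⁻¹) * k⁻¹ := by group
            _ = _ := by rw [h2.eq, mul_inv_cancel_right]
        rw [← h1]
        exact hTt _ _ (isBad_conj hsb g) (h1 ▸ conj_ne_one h hsu)
      obtain ⟨h1, h1'⟩ := himg t ht htb ha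
      obtain ⟨h2, h2'⟩ := himg t' ht' htb' hb
      obtain ⟨h3, h3'⟩ := himg t'' ht'' htb'' (htu''.symm ▸ hab1)
      rw [htu''] at h3'
      rw [h1', h2', h3', ← QuotientGroup.mk_mul, ← QuotientGroup.mk_mul]
      refine (heq _ _ (g * d * g⁻¹)
        (conj_mem_memGroup h (by rw [hg, mul_smul, (hJ.fix j j.2).1, cenAt_fix h hk]) hd) ?_).symm
      show g * t * g⁻¹ * (g * t' * g⁻¹) = g * t'' * g⁻¹ * v * (g * d * g⁻¹)
      calc g * t * g⁻¹ * (g * t' * g⁻¹) = g * (t * t') * g⁻¹ := by group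
        _ = g * t'' * g⁻¹ * (g * v * g⁻¹) * (g * d * g⁻¹) := by rw [htt]; group
        _ = _ := by rw [hgv v hv]
    have hprod := Finset.prod_congr (s₁ := (Finset.univ : Finset J)) rfl fun j _ => hterm j
    rw [Finset.prod_mul_distrib, Finset.prod_mul_distrib, Finset.prod_const, Finset.card_univ] at hprod
    change f ⁅t, u⁆ * f ⁅t', u⁆ = f (⁅t, u⁆ * ⁅t', u⁆) * _ at hprod
    obtain ⟨m, hm⟩ := hodd
    rw [← hf _ haE _ hbE ha hb, ← hf _ haE _ (mul_mem haE hbE) ha hab1, hsq, hm, pow_succ, pow_mul,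
      pow_two, hsq, one_pow, one_mul] at hprod
    have h4 := congrArg (f ⁅t, u⁆ * ·) hprod
    simpa [← mul_assoc, hsq] using h4
  obtain ⟨a, ha, b, hb, ha1, hb1, hab⟩ := exists_two h c
  obtain ⟨t, ht, htb, -, htu⟩ := hT.onto u hu hT.max.ne_one a ha ha1
  obtain ⟨t', ht', htb', -, htu'⟩ := hT.onto u hu hT.max.ne_one b hb hb1
  obtain ⟨-, -, -, -, w₀, hw₀, hW, -⟩ :=
    key t ht t' ht' htb htb' (htu ▸ ha1) (htu' ▸ hb1) (by rw [htu, htu']; exact hab)
  refine ⟨w₀, hw₀, fun s hs s' hs' hsb hsb' hsu hsu' hne => ?_⟩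
  obtain ⟨s'', hs'', hsb'', hsu'', v, hv, hW', d, hd, hss⟩ := key s hs s' hs' hsb hsb' hsu hsu' hne
  refine ⟨s'', hs'', hsb'', hsu'', d, hd, ?_⟩
  have h1 : (w₀ : P ⧸ R) = v := by
    rw [← hW, ← hW']
    exact hf _ (htu.symm ▸ ha) _ (hT.comm_memGroup_u h hs hu) (htu.symm ▸ ha1) hsu
  rw [QuotientGroup.eq] at h1
  have h2 := hT.max.eq_one_of_mem h hT.ne (mul_mem (inv_mem hw₀) hv) h1
  rwa [← inv_mul_eq_one.1 h2] at hss

end Top

end CfsgLib.StrongCrit.CentralOne
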