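import Cfsg.Agent.Lib.StrongCrit.CentralOne.Base
import Cfsg.Agent.Lib.StrongCrit.Orbit

/-!
The central case of Aschbacher's criterion with fixed sets of `q + 1` points: a maximal elementary
group `V` above a bad involution is centralised modulo the members by a bad involution not
commuting with it.
-/

set_option autoImplicit false

namespace CfsgLib.StrongCrit.CentralOne

open CfsgLib.Involutions MulAction

universe u

variable {G : Type u} [Group G] {Ω : Type u} [MulAction G Ω]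

/-- The elements centralising the members at `c` and centralising `V` modulo them. -/
def nearCen (Z : Set G) (c : Ω) (V : Subgroup G) : Set G :=
  {n | n ∈ cenAt Z c ∧ ∀ v ∈ V, n * v * n⁻¹ * v⁻¹ ∈ memGroup Z c}

/-- An elementary abelian group, maximal among those containing `u`, centralising the members at `c`
and fixing `x`. -/
structure MaxElem (Ω : Type u) [MulAction G Ω] (Z : Set G) (c x : Ω) (u : G) (V : Subgroup G) :
    Prop where
  mem_u : u ∈ V
  ne_one : u ≠ 1
  sq : ∀ v ∈ V, v * v = 1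
  le_cen : V ≤ cenAt Z c
  fix : ∀ v ∈ V, v • x = x
  maximal : ∀ t ∈ cenAt Z c, t • x = x → t * t = 1 → (∀ v ∈ V, Commute t v) → t ∈ V

namespace MaxElem

variable {Z : Set G} {c x : Ω} {u : G} {V : Subgroup G} (hV : MaxElem Ω Z c x u V)
include hV

theorem inv_eq {v : G} (hv : v ∈ V) : v⁻¹ = v := inv_eq_of_mul_eq_one_right (hV.sq v hv)

theorem comm {v w : G} (hv : v ∈ V) (hw : w ∈ V) : Commute v w := by
  have h1 := hV.inv_eq (V.mul_mem hv hw)
  rwa [mul_inv_rev, hV.inv_eq hv, hV.inv_eq hw, eq_comm] at h1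

end MaxElem

variable [Finite G] [Finite Ω] {Z : Set G} {e : ℕ} (h : CentralCase Ω Z 1 e)
include h

theorem MaxElem.eq_one_of_mem {c x : Ω} {u v : G} {V : Subgroup G} (hV : MaxElem Ω Z c x u V)
    (hxc : x ≠ c) (hv : v ∈ V) (hvE : v ∈ memGroup Z c) : v = 1 :=
  memGroup_free h hvE hxc (hV.fix v hv)

theorem MaxElem.isBad {c x : Ω} {u v : G} {V : Subgroup G} (hV : MaxElem Ω Z c x u V)
    (hxc : x ≠ c) (hv : v ∈ V) (hv1 : v ≠ 1) : IsBad Ω v :=
  ⟨orderOf_eq_two_iff_mul.2 ⟨hv1, hV.sq v hv⟩, x, c, hxc, hV.fix v hv, cenAt_fix h (hV.le_cen hv)⟩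

/-- A maximal elementary group exists. -/
theorem exists_maxElem {c x : Ω} {u : G} (hu : IsBad Ω u) (huc : u • c = c) (hux : u • x = x) :
    ∃ V : Subgroup G, MaxElem Ω Z c x u V := by
  set F : Set (Subgroup G) :=
    {W | u ∈ W ∧ (∀ v ∈ W, v * v = 1) ∧ W ≤ cenAt Z c ∧ ∀ v ∈ W, v • x = x} with hF
  have hu2 : u * u = 1 := mul_self_eq_one hu.1
  have hne : F.Nonempty := by
    refine ⟨Subgroup.zpowers u, Subgroup.mem_zpowers u, fun v hv => ?_,
      Subgroup.zpowers_le.2 (bad_mem_cenAt h hu huc),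
      fun v hv => mem_stabilizer_iff.1 (Subgroup.zpowers_le.2 (mem_stabilizer_iff.2 hux) hv)⟩
    obtain ⟨n, rfl⟩ := Subgroup.mem_zpowers_iff.1 hv
    rw [← (Commute.refl u).mul_zpow, hu2, one_zpow]
  obtain ⟨V, hVF, hmax⟩ := F.toFinite.exists_maximal hne
  obtain ⟨huV, hsq, hle, hfix⟩ := hVF
  refine ⟨V, huV, (orderOf_eq_two_iff_mul.1 hu.1).1, hsq, hle, hfix, fun t ht htx ht2 htV => ?_⟩
  have hti : t⁻¹ = t := inv_eq_of_mul_eq_one_right ht2
  let W : Subgroup G :=
    { carrier := {g | g ∈ V ∨ t * g ∈ V}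
      one_mem' := Or.inl (one_mem V)
      mul_mem' := by
        rintro a b (ha | ha) (hb | hb)
        · exact Or.inl (mul_mem ha hb)
        · exact Or.inr (by rw [← mul_assoc, (htV a ha).eq, mul_assoc]; exact mul_mem ha hb)
        · exact Or.inr (by rw [← mul_assoc]; exact mul_mem ha hb)
        · refine Or.inl ?_
          have h1 : t * a * (t * b) = a * b := by
            rw [← mul_assoc, ← (htV _ ha).eq, ← mul_assoc t t, ht2, one_mul]
          rw [← h1]
          exact mul_mem ha hb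
      inv_mem' := by
        rintro a (ha | ha)
        · exact Or.inl (inv_mem ha)
        · refine Or.inr ?_
          have h1 : t * a⁻¹ = t * (t * a)⁻¹ * t := by rw [mul_inv_rev, hti]; simp [mul_assoc, ht2]
          rw [h1, (htV _ (inv_mem ha)).eq, mul_assoc, ht2, mul_one]
          exact inv_mem ha }
  have hVW : V ≤ W := fun g hg => Or.inl hg
  have hWF : W ∈ F := by
    refine ⟨hVW huV, ?_, ?_, ?_⟩
    · rintro g (hg | hg)
      · exact hsq g hg
      · have h1 : g = t * (t * g) := by rw [← mul_assoc, ht2, one_mul]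
        rw [h1, mul_assoc, ← mul_assoc (t * g), ← (htV _ hg).eq, mul_assoc t, hsq _ hg, mul_one,
          ht2]
    · rintro g (hg | hg)
      · exact hle hg
      · have h1 : g = t * (t * g) := by rw [← mul_assoc, ht2, one_mul]
        rw [h1]
        exact mul_mem ht (hle hg)
    · rintro g (hg | hg)
      · exact hfix g hg
      · have h1 : g = t * (t * g) := by rw [← mul_assoc, ht2, one_mul]
        rw [h1, mul_smul, hfix _ hg, htx]
  exact hmax hWF hVW (Or.inr (by rw [ht2]; exact one_mem V))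

/-- Twice `q` divides the number of bad involutions at a point. -/
theorem two_mul_dvd_bad (c : Ω) : 2 * 2 ^ e ∣ {w : G | IsBad Ω w ∧ w • c = c}.ncard := by
  classical
  have := Fintype.ofFinite G
  have := Fintype.ofFinite Ω
  obtain ⟨x, hxc⟩ := h.crit.base.nontriv c
  set B : Finset G := Finset.univ.filter fun w => IsBad Ω w ∧ w • c = c with hB
  set s : Finset Ω := Finset.univ.erase c with hs
  let r : G → Ω → Prop := fun w y => w • y = y
  have htwo := twoTrans h
  have habove : ∀ w ∈ B, (s.bipartiteAbove r w).card = 2 ^ e := by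
    intro w hw
    obtain ⟨hwb, hwc⟩ := (Finset.mem_filter.1 hw).2
    have h1 : (s.bipartiteAbove r w : Set Ω) = fixedBy Ω w \ {c} := by
      ext y
      simp [Finset.bipartiteAbove, hs, r, and_comm]
    rw [← Set.ncard_coe_finset, h1, Set.ncard_sdiff_singleton_of_mem (s := fixedBy Ω w) hwc,
      h.card_fix w hwb, mul_one, Nat.add_sub_cancel]
  have hle : ∀ y ∈ s, ∀ y' ∈ s, (B.bipartiteBelow r y).card ≤ (B.bipartiteBelow r y').card := by
    intro y hy y' hy'
    obtain ⟨m, hmc, hmy⟩ := htwo c y y' (Finset.ne_of_mem_erase hy) (Finset.ne_of_mem_erase hy')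
    refine Finset.card_le_card_of_injOn (fun w => m * w * m⁻¹) ?_ fun a _ b _ e => by simpa using e
    intro w hw
    simp only [Finset.bipartiteBelow, Finset.coe_filter, Set.mem_setOf_eq, hB, Finset.mem_filter,
      Finset.mem_univ, true_and, r] at hw ⊢
    refine ⟨⟨isBad_conj hw.1.1 m, ?_⟩, ?_⟩
    · rw [mul_smul, mul_smul, inv_smul_eq_iff.2 hmc.symm, hw.1.2, hmc]
    · rw [mul_smul, mul_smul, inv_smul_eq_iff.2 hmy.symm, hw.2, hmy]
  have hxs : x ∈ s := Finset.mem_erase.2 ⟨hxc, Finset.mem_univ x⟩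
  have h1 : B.card * 2 ^ e = (2 ^ e * 2 ^ e * 2 ^ e) * (B.bipartiteBelow r x).card := by
    have h2 := Finset.sum_card_bipartiteAbove_eq_sum_card_bipartiteBelow (s := B) (t := s) (r := r)
    rw [Finset.sum_congr rfl habove, Finset.sum_const, smul_eq_mul,
      Finset.sum_congr rfl fun y hy => le_antisymm (hle y hy x hxs) (hle x hxs y hy),
      Finset.sum_const, smul_eq_mul, hs, Finset.card_erase_of_mem (Finset.mem_univ c),
      Finset.card_univ, ← Nat.card_eq_fintype_card, card_omega_eq h, Nat.add_sub_cancel] at h2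
    exact h2
  have h2 : {w : G | IsBad Ω w ∧ w • c = c}.ncard = B.card := by
    rw [← Set.ncard_coe_finset, hB]
    simp
  rw [h2]
  refine ⟨2 ^ (e - 1) * (B.bipartiteBelow r x).card, ?_⟩
  have he : 2 ^ e = 2 * 2 ^ (e - 1) := by
    rw [← pow_succ', Nat.sub_add_cancel (by have := h.two_le; omega)]
  refine Nat.eq_of_mul_eq_mul_right (show 0 < 2 ^ e from Nat.two_pow_pos e) ?_
  rw [h1, he]
  ring

/-- Some bad involution at `c` centralises `V` modulo the members without centralising it. -/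
theorem exists_near {c x : Ω} {u : G} {V : Subgroup G} (hxc : x ≠ c)
    (hV : MaxElem Ω Z c x u V) :
    ∃ z, IsBad Ω z ∧ z • c = c ∧ z ∈ nearCen Z c V ∧ ¬ ∀ v ∈ V, Commute z v := by
  classical
  by_contra hcon
  push Not at hcon
  set B : Set G := {w | IsBad Ω w ∧ w • c = c} with hB
  have hBC : ∀ w ∈ B, w ∈ cenAt Z c := fun w hw => bad_mem_cenAt h hw.1 hw.2
  have hT : ∀ (p : V × memGroup Z c), ∀ w ∈ B, (p.1 : G) * w * (p.1 : G)⁻¹ * (p.2 : G) ∈ B := by
    rintro ⟨v, b⟩ w ⟨hw, hwc⟩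
    have hvc := cenAt_fix h (hV.le_cen v.2)
    have h1 : ((v : G) * w * (v : G)⁻¹) • c = c := by
      rw [mul_smul, mul_smul, inv_smul_eq_iff.2 hvc.symm, hwc, hvc]
    exact ⟨isBad_mul h (isBad_conj hw _) h1 b.2, by rw [mul_smul, memGroup_fix h b.2, h1]⟩
  let act : MulAction (V × memGroup Z c) B :=
    { smul := fun p w => ⟨(p.1 : G) * w.1 * (p.1 : G)⁻¹ * (p.2 : G), hT p w.1 w.2⟩
      one_smul := fun w => Subtype.ext (by show (1 : G) * w.1 * (1 : G)⁻¹ * 1 = w.1; simp)
      mul_smul := fun p p' w => Subtype.ext (by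
        show ((p.1 : G) * p'.1) * w.1 * ((p.1 : G) * p'.1)⁻¹ * ((p.2 : G) * p'.2) =
          (p.1 : G) * ((p'.1 : G) * w.1 * (p'.1 : G)⁻¹ * p'.2) * (p.1 : G)⁻¹ * p.2
        have h1 : Commute (p'.2 : G) (p.1 : G)⁻¹ :=
          (commute_cenAt h p'.2.2 (hV.le_cen p.1.2)).inv_right
        rw [(h.crit.base.commute_memGroup h.crit.faith h.comm p.2.2 p'.2.2).eq]
        calc (p.1 : G) * p'.1 * w.1 * ((p.1 : G) * p'.1)⁻¹ * ((p'.2 : G) * p.2)
            = (p.1 : G) * p'.1 * w.1 * (p'.1 : G)⁻¹ * ((p.1 : G)⁻¹ * p'.2) * p.2 := by group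
          _ = (p.1 : G) * p'.1 * w.1 * (p'.1 : G)⁻¹ * ((p'.2 : G) * (p.1 : G)⁻¹) * p.2 := by
            rw [h1.eq]
          _ = _ := by group) }
  have h2 : IsPGroup 2 (V × memGroup Z c) := fun p => ⟨1, by
    rw [pow_one, pow_two]
    exact Prod.ext (Subtype.ext (hV.sq _ p.1.2)) (Subtype.ext (memGroup_sq h p.2.2))⟩
  set T : Set B := {w | ¬ (w : G) ∈ nearCen Z c V} with hTdef
  have hdvd : 2 * 2 ^ e ∣ T.ncard := by
    refine dvd_ncard_of_orbits (H := V × memGroup Z c) T (fun p w hw hn => hw ?_) fun w hw => ?_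
    · refine ⟨hBC _ w.2, fun v hv => ?_⟩
      have h1 : (p.1 : G) * w.1 * (p.1 : G)⁻¹ * p.2 * v *
          ((p.1 : G) * w.1 * (p.1 : G)⁻¹ * p.2)⁻¹ * v⁻¹ ∈ memGroup Z c := hn.2 v hv
      have hpv : Commute (p.2 : G) v := commute_cenAt h p.2.2 (hV.le_cen hv)
      have hvv : Commute (p.1 : G)⁻¹ v := (hV.comm p.1.2 hv).inv_left
      have h3 : (p.1 : G) * w.1 * (p.1 : G)⁻¹ * p.2 * v *
          ((p.1 : G) * w.1 * (p.1 : G)⁻¹ * p.2)⁻¹ * v⁻¹ =
          (p.1 : G) * (w.1 * v * (w.1)⁻¹ * v⁻¹) * (p.1 : G)⁻¹ := by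
        calc (p.1 : G) * w.1 * (p.1 : G)⁻¹ * p.2 * v *
              ((p.1 : G) * w.1 * (p.1 : G)⁻¹ * p.2)⁻¹ * v⁻¹
            = (p.1 : G) * w.1 * (p.1 : G)⁻¹ * ((p.2 : G) * v) * (p.2 : G)⁻¹ * p.1 * (w.1)⁻¹ *
                (p.1 : G)⁻¹ * v⁻¹ := by group
          _ = (p.1 : G) * w.1 * ((p.1 : G)⁻¹ * v) * p.1 * (w.1)⁻¹ * ((p.1 : G)⁻¹ * v⁻¹) := by
            rw [hpv.eq]; group
          _ = (p.1 : G) * w.1 * (v * (p.1 : G)⁻¹) * p.1 * (w.1)⁻¹ * (v⁻¹ * (p.1 : G)⁻¹) := by
            rw [hvv.eq, hvv.inv_right.eq]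
          _ = _ := by group
      rw [h3] at h1
      have h4 := conj_mem_memGroup h (g := (p.1 : G)⁻¹)
        (inv_smul_eq_iff.2 (cenAt_fix h (hV.le_cen p.1.2)).symm) h1
      rw [inv_inv] at h4
      simpa [mul_assoc] using h4
    · simp only [hTdef, Set.mem_setOf_eq, nearCen, not_and, not_forall] at hw
      obtain ⟨v, hv, hvE⟩ := hw (hBC _ w.2)
      obtain ⟨k, hk⟩ := h2.exists_card_eq
      have hcd : (orbit (V × memGroup Z c) w).ncard ∣ 2 ^ k := by
        rw [← index_stabilizer, ← hk]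
        exact Subgroup.index_dvd_card _
      have hsub : (fun b : memGroup Z c => (((1 : V), b) : V × memGroup Z c) • w) '' Set.univ ⊆
          orbit (V × memGroup Z c) w := by
        rintro _ ⟨b, -, rfl⟩
        exact mem_orbit _ _
      have hval : ∀ b : memGroup Z c,
          (((((1 : V), b) : V × memGroup Z c) • w : B) : G) = w.1 * b := fun b => by
        show (1 : G) * w.1 * (1 : G)⁻¹ * b = _
        simp
      have hinj : Function.Injective
          (fun b : memGroup Z c => (((1 : V), b) : V × memGroup Z c) • w) := fun a b hab => by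
        have h3 := congrArg Subtype.val hab
        rw [hval, hval] at h3
        exact Subtype.ext (mul_left_cancel h3)
      have hlt : 2 ^ e < (orbit (V × memGroup Z c) w).ncard := by
        rw [← card_memGroup h c, ← Set.ncard_univ, ← Set.ncard_image_of_injective _ hinj]
        refine Set.ncard_lt_ncard (hsub.ssubset_of_ne fun heq => hvE ?_) (Set.toFinite _)
        obtain ⟨b, -, hb⟩ := heq.symm.subset (mem_orbit w ((⟨v, hv⟩, 1) : V × memGroup Z c))
        have h3 : w.1 * (b : G) = v * w.1 * v⁻¹ * 1 := (hval b).symm.trans (congrArg Subtype.val hb)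
        rw [mul_one] at h3
        have h4 : (b : G) = w.1 * v * (w.1)⁻¹ * v⁻¹ := by
          rw [inv_eq_self_of_involution w.2.1.1]
          calc (b : G) = w.1 * (w.1 * b) := by
                rw [← mul_assoc, mul_self_eq_one w.2.1.1, one_mul]
            _ = w.1 * v * w.1 * v⁻¹ := by rw [h3]; group
        exact h4 ▸ b.2
      obtain ⟨i, -, hi⟩ := (Nat.dvd_prime_pow Nat.prime_two).1 hcd
      rw [hi, ← pow_succ']
      rw [hi] at hlt
      exact pow_dvd_pow 2 ((Nat.pow_lt_pow_iff_right (by norm_num)).1 hlt)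
  -- the complement has size `(|V| - 1) q`
  have hcompl : (Subtype.val '' Tᶜ : Set G) =
      (fun p : G × G => p.1 * p.2) '' ({v | v ∈ V ∧ v ≠ 1} ×ˢ (memGroup Z c : Set G)) := by
    ext g
    constructor
    · rintro ⟨⟨z, hz⟩, hzT, rfl⟩
      have hzn : z ∈ nearCen Z c V := by simpa [hTdef] using hzT
      have hzV := hcon z hz.1 hz.2 hzn
      have hu := hV.isBad h hxc hV.mem_u hV.ne_one
      have hux := hV.fix u hV.mem_u
      obtain ⟨b, hb, hbx⟩ := exists_mul_fix h hu (cenAt_fix h (hV.le_cen hV.mem_u)) hux hxc hzn.1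
        (hzV u hV.mem_u)
      have hbz : Commute b z := commute_cenAt h hb hzn.1
      have hmem : b * z ∈ V := hV.maximal _ (mul_mem (memGroup_le_cenAt h hb) hzn.1) hbx
        (by rw [mul_assoc, ← mul_assoc z, ← hbz.eq, mul_assoc b, mul_self_eq_one hz.1.1, mul_one,
          memGroup_sq h hb])
        fun v hv => (commute_cenAt h hb (hV.le_cen hv)).mul_left (hzV v hv)
      refine ⟨(b * z, b), ⟨⟨hmem, fun e => ?_⟩, hb⟩, ?_⟩
      · obtain ⟨-, p, p', hpp, hp, hp'⟩ := hz.1
        have h1 : z = b := by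
          rw [← one_mul z, ← memGroup_sq h hb, mul_assoc, show b * z = 1 from e, mul_one]
        rcases eq_or_ne p c with rfl | hpc
        · exact hpp.symm (by_contra fun h3 => (orderOf_eq_two_iff_mul.1 hz.1.1).1
            (h1.trans (memGroup_free h hb h3 (h1 ▸ hp'))))
        · exact (orderOf_eq_two_iff_mul.1 hz.1.1).1 (h1.trans (memGroup_free h hb hpc (h1 ▸ hp)))
      · show b * z * b = z
        rw [hbz.eq, mul_assoc, memGroup_sq h hb, mul_one]
    · rintro ⟨⟨v, b⟩, ⟨⟨hv, hv1⟩, hb⟩, rfl⟩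
      have hvb := hV.isBad h hxc hv hv1
      have hvc := cenAt_fix h (hV.le_cen hv)
      refine ⟨⟨v * b, isBad_mul h hvb hvc hb, by rw [mul_smul, memGroup_fix h hb, hvc]⟩, ?_, rfl⟩
      simp only [hTdef, Set.mem_compl_iff, Set.mem_setOf_eq, not_not]
      refine ⟨mul_mem (hV.le_cen hv) (memGroup_le_cenAt h hb), fun w hw => ?_⟩
      have h1 : Commute (v * b) w := (hV.comm hv hw).mul_left (commute_cenAt h hb (hV.le_cen hw))
      rw [h1.eq, mul_inv_cancel_right, mul_inv_cancel]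
      exact one_mem _
  have h1 : Tᶜ.ncard = {v | v ∈ V ∧ v ≠ 1}.ncard * 2 ^ e := by
    rw [← Set.ncard_image_of_injective Tᶜ Subtype.val_injective, hcompl,
      Set.InjOn.ncard_image, Set.ncard_prod]
    · exact congrArg _ ((Nat.card_coe_set_eq _).symm.trans (card_memGroup h c))
    · rintro ⟨v, b⟩ ⟨⟨hv, -⟩, hb⟩ ⟨v', b'⟩ ⟨⟨hv', -⟩, hb'⟩ e
      have h3 : v'⁻¹ * v = b' * b⁻¹ := by
        rw [eq_mul_inv_iff_mul_eq, mul_assoc, inv_mul_eq_iff_eq_mul]
        exact e
      have h4 := hV.eq_one_of_mem h hxc (mul_mem (inv_mem hv') hv)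
        (h3 ▸ mul_mem hb' (inv_mem hb))
      have h5 := inv_mul_eq_one.1 h4
      subst h5
      exact Prod.ext rfl (mul_left_cancel e)
  have h3 : 2 * 2 ^ e ∣ Tᶜ.ncard := by
    have h4 := Set.ncard_add_ncard_compl T
    have h5 : 2 * 2 ^ e ∣ T.ncard + Tᶜ.ncard := by
      rw [h4, Nat.card_coe_set_eq]
      exact two_mul_dvd_bad h c
    exact (Nat.dvd_add_right hdvd).1 h5
  rw [h1] at h3
  have h4 : 2 ∣ {v | v ∈ V ∧ v ≠ 1}.ncard :=
    Nat.dvd_of_mul_dvd_mul_right (Nat.two_pow_pos e) h3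
  have h5 : {v | v ∈ V ∧ v ≠ 1}.ncard + 1 = Nat.card V := by
    rw [show {v | v ∈ V ∧ v ≠ 1} = (V : Set G) \ {1} from rfl,
      Set.ncard_sdiff_singleton_add_one (one_mem V) (Set.toFinite _), ← Nat.card_coe_set_eq]
    rfl
  have h6 : 2 ∣ Nat.card V := by
    have := Subgroup.orderOf_dvd_natCard V hV.mem_u
    rwa [(hV.isBad h hxc hV.mem_u hV.ne_one).1] at this
  omega

end CfsgLib.StrongCrit.CentralOne
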