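import Cfsg.Agent.Lib.StrongCrit.Endgame
import Cfsg.Agent.Lib.StrongCrit.FourD

/-!
The central case of Aschbacher's criterion with fixed sets of `q + 1` points: the centraliser of the
members at a point, the torus of two points and the data of the maximal elementary group above a
bad involution.
-/

set_option autoImplicit false

namespace CfsgLib.StrongCrit.CentralOne

open MulAction

universe u

variable {G : Type u} [Group G] {Ω : Type u} [MulAction G Ω]

/-- The centraliser of the members at `c`; it fixes `c`. -/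
def cenAt (Z : Set G) (c : Ω) : Subgroup G := Subgroup.centralizer (memGroup Z c : Set G)

/-- The torus of two points: the products of two members interchanging them; it is regular on the
members at either and centralises the bad involutions fixing both. -/
structure TorusAt (Ω : Type u) [MulAction G Ω] (Z : Set G) (c x : Ω) (J : Subgroup G) : Prop where
  isCyclic : IsCyclic J
  card_eq : Nat.card J = (memAt Z c).ncard
  fix : ∀ j ∈ J, j • c = c ∧ j • x = x
  regular : ∀ a ∈ memAt Z c, Set.BijOn (fun d => d * a * d⁻¹) (J : Set G) (memAt Z c)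
  regular' : ∀ a ∈ memAt Z x, Set.BijOn (fun d => d * a * d⁻¹) (J : Set G) (memAt Z x)
  commute : ∀ w : G, IsBad Ω w → w • c = c → w • x = x → ∀ j ∈ J, Commute w j
  norm : ∀ d : G, d • c = c → d • x = x → ∀ j ∈ J, d * j * d⁻¹ ∈ J
  commute_cen : ∀ g ∈ cenAt Z c, g • x = x → ∀ j ∈ J, Commute g j

/-- What the maximal elementary group above a bad involution `u` at `c` and `x` gives: two commuting
bad involutions with two common fixed points coincide, and there is a 2-group `P = ⟨u⟩ Y` in the
centraliser of the members at `c`, with `Y` inverted by `u` of exponent 4 and every element of `u Y`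
bad, normalised by lifts of the torus. -/
structure CliqueData (Ω : Type u) [MulAction G Ω] (Z : Set G) (c x : Ω) (u : G)
    (P Y J : Subgroup G) : Prop where
  bad : IsBad Ω u
  fix_c : u • c = c
  fix_x : u • x = x
  ne : x ≠ c
  noFour : NoFour (G := G) Ω
  torus : TorusAt Ω Z c x J
  isTwo : IsPGroup 2 P
  le_cen : P ≤ cenAt Z c
  mem_u : u ∈ P
  le : Y ≤ P
  mem_or : ∀ g ∈ P, g ∈ Y ∨ u * g ∈ Y
  memGroup_le : memGroup Z c ≤ Y
  card_Y : Nat.card Y = Nat.card (memGroup Z c) * Nat.card (memGroup Z c)
  isBad_mul : ∀ y ∈ Y, IsBad Ω (u * y)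
  inv : ∀ y ∈ Y, u * y * u⁻¹ = y⁻¹
  comm : ∀ y ∈ Y, ∀ z ∈ Y, Commute y z
  sq_mem : ∀ y ∈ Y, y * y ∈ memGroup Z c
  mem_of_sq : ∀ y ∈ Y, y * y = 1 → y ∈ memGroup Z c
  exists_sq : ∀ b ∈ memGroup Z c, ∃ y ∈ Y, y * y = b
  normalize : ∀ j ∈ J, ∃ k ∈ cenAt Z c, k • x = x ∧ Commute k u ∧
    ∀ g ∈ P, k * j * g * (k * j)⁻¹ ∈ P

end CfsgLib.StrongCrit.CentralOne
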