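import Cfsg.Agent.Lib.StrongCrit.TransSigma

/-!
A transitive affine action on an elementary abelian 2-group in which the stabiliser of zero normalises
an abelian group transitive on the nonzero elements and contains a nontrivial element of 2-power order
contains all translations.
-/

set_option autoImplicit false

namespace CfsgLib.StrongCrit

universe u v

variable {V : Type v} [AddCommGroup V] [Finite V] {X : Type u} [Group X] [MulAction X V]

/-- The field of an abelian group of linear maps transitive on the nonzero vectors, with the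
semilinearity of the maps normalising it. -/
theorem exists_field_of_abelian_transitive [Nontrivial V] (hexp : ∀ x : V, x + x = 0)
    (T : Set (AddMonoid.End V))
    (hcomm : ∀ s ∈ T, ∀ t ∈ T, ∀ v : V, s (t v) = t (s v))
    (htr : ∀ v w : V, v ≠ 0 → w ≠ 0 → ∃ t ∈ T, t v = w) :
    ∃ (F : Type v) (_ : Field F) (_ : Finite F) (_ : CharP F 2) (e : V ≃+ F),
      (∀ a : F, a ≠ 0 → ∃ t ∈ T, ∀ v, e (t v) = a * e v) ∧
      (∀ d : V ≃+ V, (∀ t ∈ T, ∃ t' ∈ T, ∀ v : V, d (t v) = t' (d v)) →
        ∃ (a : F) (σ : F ≃+* F), a ≠ 0 ∧ ∀ v, e (d v) = a * σ (e v)) := by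
  classical
  let K : Subring (AddMonoid.End V) := Subring.centralizer T
  have hK : ∀ f : AddMonoid.End V, f ∈ K ↔ ∀ t ∈ T, ∀ v : V, t (f v) = f (t v) := by
    intro f
    simp only [K, Subring.mem_centralizer_iff]
    exact ⟨fun h t ht v => DFunLike.congr_fun (h t ht) v,
      fun h t ht => DFunLike.ext _ _ fun v => h t ht v⟩
  obtain ⟨e₀, he₀⟩ := exists_ne (0 : V)
  have hev : ∀ f ∈ K, ∀ g ∈ K, f e₀ = g e₀ → f = g := by
    intro f hf g hg hfg
    refine DFunLike.ext _ _ fun v => ?_
    rcases eq_or_ne v 0 with rfl | hv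
    · rw [map_zero, map_zero]
    obtain ⟨t, ht, rfl⟩ := htr e₀ v he₀ hv
    rw [← (hK f).1 hf t ht, ← (hK g).1 hg t ht, hfg]
  have hTK : ∀ t ∈ T, t ∈ K := fun t ht => (hK _).2 fun s hs v => hcomm s hs t ht v
  have helem : ∀ f ∈ K, f = 0 ∨ f ∈ T := by
    intro f hf
    rcases eq_or_ne (f e₀) 0 with h0 | h0
    · exact Or.inl (hev f hf 0 K.zero_mem (by rw [h0]; rfl))
    · obtain ⟨t, ht, hte⟩ := htr e₀ _ he₀ h0
      exact Or.inr (hev f hf _ (hTK t ht) hte.symm ▸ ht)
  letI : CommRing K :=
    { (inferInstance : Ring K) with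
      mul_comm := fun f g => Subtype.ext (by
        rcases helem f f.2 with hf | hf
        · show (f : AddMonoid.End V) * g = g * f
          rw [hf, zero_mul, mul_zero]
        · exact DFunLike.ext _ _ fun v => (hK _).1 g.2 _ hf v) }
  have hinj : ∀ f : K, f ≠ 0 → ∀ v : V, (f : AddMonoid.End V) v = 0 → v = 0 := by
    intro f hf v hfv
    by_contra hv
    refine hf (Subtype.ext (DFunLike.ext _ _ fun w => ?_))
    rcases eq_or_ne w 0 with rfl | hw
    · exact map_zero _
    obtain ⟨t, ht, rfl⟩ := htr v w hv hw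
    rw [← (hK _).1 f.2 t ht, hfv, map_zero]
    rfl
  haveI : Nontrivial K := ⟨0, 1, fun h => he₀ (by
    have := DFunLike.congr_fun (congrArg Subtype.val h) e₀
    exact this.symm)⟩
  haveI : NoZeroDivisors K := ⟨fun {f g} h => by
    by_contra hfg
    push Not at hfg
    exact he₀ (hinj g hfg.2 e₀ (hinj f hfg.1 _ (DFunLike.congr_fun (congrArg Subtype.val h) e₀)))⟩
  haveI : IsDomain K := NoZeroDivisors.to_isDomain K
  haveI : Finite K := Finite.of_injective (fun f : K => (f : AddMonoid.End V) e₀)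
    fun f g h => Subtype.ext (hev f f.2 g g.2 h)
  haveI := Fintype.ofFinite K
  letI : Field K := Fintype.fieldOfDomain K
  let ev : K →+ V :=
    { toFun := fun f => (f : AddMonoid.End V) e₀
      map_zero' := rfl
      map_add' := fun _ _ => rfl }
  have hbij : Function.Bijective ev := ⟨fun f g h => Subtype.ext (hev f f.2 g g.2 h), fun v => by
    rcases eq_or_ne v 0 with rfl | hv
    · exact ⟨0, rfl⟩
    · obtain ⟨t, ht, rfl⟩ := htr e₀ v he₀ hv
      exact ⟨⟨t, hTK t ht⟩, rfl⟩⟩
  let e : K ≃+ V := AddEquiv.ofBijective ev hbij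
  have hesymm : ∀ v : V, (((e.symm v : K) : AddMonoid.End V)) e₀ = v := fun v => e.apply_symm_apply v
  have h2 : (2 : K) = 0 := by
    rw [← one_add_one_eq_two]
    exact Subtype.ext (DFunLike.ext _ _ fun v => hexp v)
  haveI hchar : CharP K 2 := CharTwo.of_one_ne_zero_of_two_eq_zero one_ne_zero h2
  refine ⟨K, inferInstance, inferInstance, hchar, e.symm, fun a ha => ?_, fun d hd => ?_⟩
  · refine ⟨_, (helem a a.2).resolve_left fun h => ha (Subtype.ext h), fun v => e.injective ?_⟩
    rw [e.apply_symm_apply]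
    show (a : AddMonoid.End V) v = (a : AddMonoid.End V) (((e.symm v : K) : AddMonoid.End V) e₀)
    rw [hesymm]
  · let D : AddMonoid.End V := d.toAddMonoidHom
    let D' : AddMonoid.End V := d.symm.toAddMonoidHom
    have hDD : D * D' = 1 ∧ D' * D = 1 :=
      ⟨DFunLike.ext _ _ fun v => d.apply_symm_apply v, DFunLike.ext _ _ fun v => d.symm_apply_apply v⟩
    have hfwd : ∀ t ∈ T, D * t * D' ∈ T := fun t ht => by
      obtain ⟨t', ht', h'⟩ := hd t ht
      have : D * t * D' = t' := DFunLike.ext _ _ fun v => by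
        show d (t (d.symm v)) = t' v
        rw [h', d.apply_symm_apply]
      rw [this]; exact ht'
    have hconj : ∀ f ∈ K, D * f * D' ∈ K := by
      intro f hf
      rcases helem f hf with rfl | hfT
      · rw [mul_zero, zero_mul]; exact K.zero_mem
      · exact hTK _ (hfwd f hfT)
    let σ₀ : K →+* K :=
      { toFun := fun f => ⟨D * f * D', hconj f f.2⟩
        map_zero' := Subtype.ext (by simp)
        map_one' := Subtype.ext (by show D * 1 * D' = 1; rw [mul_one, hDD.1])
        map_mul' := fun f g => Subtype.ext (by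
          show D * ((f : AddMonoid.End V) * g) * D' = D * f * D' * (D * g * D')
          calc D * ((f : AddMonoid.End V) * g) * D' = D * f * (1 : AddMonoid.End V) * g * D' := by
                simp [mul_assoc]
            _ = D * f * (D' * D) * g * D' := by rw [hDD.2]
            _ = _ := by simp [mul_assoc])
        map_add' := fun f g => Subtype.ext (by
          show D * ((f : AddMonoid.End V) + g) * D' = D * f * D' + D * g * D'
          rw [mul_add, add_mul]) }
    let σ : K ≃+* K := RingEquiv.ofBijective σ₀ (Finite.injective_iff_bijective.1 σ₀.injective)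
    refine ⟨e.symm (d e₀), σ, fun h => he₀ (by simpa using h), fun v => e.injective ?_⟩
    rw [e.apply_symm_apply, mul_comm]
    show d v = d (((e.symm v : K) : AddMonoid.End V)
      (d.symm (((e.symm (d e₀) : K) : AddMonoid.End V) e₀)))
    rw [hesymm, d.symm_apply_apply, hesymm]

/-- A transitive affine action in which the stabiliser of zero normalises an abelian group transitive
on the nonzero elements and contains a nontrivial element of 2-power order has all translations. -/
theorem exists_translation_of_affine (hexp : ∀ x : V, x + x = 0)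
    (haff : ∀ g : X, ∀ x y : V, g • (x + y) + g • (0 : V) = g • x + g • y)
    (htr : ∀ x : V, ∃ g : X, g • (0 : V) = x) (T : Set X) (hT0 : ∀ t ∈ T, t • (0 : V) = 0)
    (hTcomm : ∀ s ∈ T, ∀ t ∈ T, ∀ v : V, s • t • v = t • s • v)
    (hTnorm : ∀ g : X, g • (0 : V) = 0 → ∀ t ∈ T, ∃ t' ∈ T, ∀ v : V, g • t • v = t' • g • v)
    (hTtr : ∀ v w : V, v ≠ 0 → w ≠ 0 → ∃ t ∈ T, t • v = w)
    {g₀ : X} (hg₀ : g₀ • (0 : V) = 0) {v₀ : V} (hne : g₀ • v₀ ≠ v₀) {k : ℕ}
    (hk : ∀ v : V, g₀ ^ 2 ^ k • v = v) (b : V) : ∃ g : X, ∀ x : V, g • x = x + b := by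
  classical
  have hlin : ∀ g : X, g • (0 : V) = 0 → ∀ x y : V, g • (x + y) = g • x + g • y := fun g hg x y => by
    have := haff g x y
    rwa [hg, add_zero] at this
  haveI : Nontrivial V := ⟨⟨g₀ • v₀, v₀, hne⟩⟩
  let lin : (g : X) → g • (0 : V) = 0 → AddMonoid.End V := fun g hg =>
    AddMonoidHom.mk' (fun x => g • x) (hlin g hg)
  let T' : Set (AddMonoid.End V) := {f | ∃ t ∈ T, ∀ v, f v = t • v}
  obtain ⟨F, _, _, _, e, hmul, hsemi⟩ := exists_field_of_abelian_transitive hexp T'
    (by
      rintro s ⟨s₁, hs, hs'⟩ t ⟨t₁, ht, ht'⟩ v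
      rw [hs', ht', ht', hs']
      exact hTcomm s₁ hs t₁ ht v)
    (fun v w hv hw => by
      obtain ⟨t, ht, htv⟩ := hTtr v w hv hw
      exact ⟨lin t (hT0 t ht), ⟨t, ht, fun _ => rfl⟩, htv⟩)
  have hstab : ∀ g : X, g • (0 : V) = 0 →
      ∃ (a : F) (σ : F ≃+* F), a ≠ 0 ∧ ∀ v, e (g • v) = a * σ (e v) := by
    intro g hg
    let d : V ≃+ V :=
      { toFun := fun x => g • x
        invFun := fun x => g⁻¹ • x
        left_inv := fun x => inv_smul_smul g x
        right_inv := fun x => smul_inv_smul g x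
        map_add' := hlin g hg }
    exact hsemi d (by
      rintro t ⟨t₁, ht, ht'⟩
      obtain ⟨t₂, ht₂, h'⟩ := hTnorm g hg t₁ ht
      exact ⟨lin t₂ (hT0 t₂ ht₂), ⟨t₂, ht₂, fun _ => rfl⟩, fun v => by
        show g • (t v) = t₂ • g • v
        rw [ht', h']⟩)
  letI : MulAction X F :=
    { smul := fun g x => e (g • e.symm x)
      one_smul := fun x => by show e ((1 : X) • e.symm x) = x; rw [one_smul, e.apply_symm_apply]
      mul_smul := fun g h x => by
        show e ((g * h) • e.symm x) = e (g • e.symm (e (h • e.symm x)))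
        rw [e.symm_apply_apply, mul_smul] }
  have hsmul : ∀ (g : X) (x : F), g • x = e (g • e.symm x) := fun _ _ => rfl
  -- the field part of `g₀`
  obtain ⟨a, σ, ha, hσ⟩ := hstab g₀ hg₀
  have hpow : ∀ n : ℕ, ∃ (a' : F), a' ≠ 0 ∧ ∀ v, e (g₀ ^ n • v) = a' * (σ ^ n) (e v) := by
    intro n
    induction n with
    | zero => exact ⟨1, one_ne_zero, fun v => by simp⟩
    | succ n ih =>
      obtain ⟨a', ha', h'⟩ := ih
      refine ⟨a * σ a', mul_ne_zero ha (by simpa using ha'), fun v => ?_⟩
      rw [pow_succ', mul_smul, hσ, h', map_mul, pow_succ' σ, mul_assoc]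
      rfl
  have hσk : σ ^ 2 ^ k = 1 := by
    obtain ⟨a', ha', h'⟩ := hpow (2 ^ k)
    have h1 : a' = 1 := by
      have := h' (e.symm 1)
      rwa [hk, e.apply_symm_apply, map_one, mul_one, eq_comm] at this
    refine RingEquiv.ext fun x => ?_
    have := h' (e.symm x)
    rw [hk, e.apply_symm_apply, h1, one_mul] at this
    exact this.symm
  have hσ1 : σ ≠ 1 := by
    intro h1
    have h2 : ∀ n : ℕ, ∀ v, e (g₀ ^ n • v) = a ^ n * e v := by
      intro n
      induction n with
      | zero => intro v; simp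
      | succ n ih =>
        intro v
        rw [pow_succ', mul_smul, hσ, ih, h1, pow_succ', mul_assoc]
        rfl
    have h3 : a ^ 2 ^ k = 1 := by
      have := h2 (2 ^ k) (e.symm 1)
      rwa [hk, e.apply_symm_apply, mul_one, eq_comm] at this
    have h4 : a = 1 := frobenius_eq_one k h3
    exact hne (e.injective (by rw [hσ, h4, h1, one_mul]; rfl))
  obtain ⟨j, -, hj⟩ := (Nat.dvd_prime_pow Nat.prime_two).1 (orderOf_dvd_of_pow_eq_one hσk)
  have hj0 : j ≠ 0 := by
    rintro rfl
    exact hσ1 (orderOf_eq_one_iff.1 (by rw [hj, pow_zero]))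
  have hlt : 2 ^ (j - 1) < orderOf σ := by
    rw [hj]; exact Nat.pow_lt_pow_right one_lt_two (by omega)
  obtain ⟨a', ha', hτ⟩ := hpow (2 ^ (j - 1))
  have hτ2 : ∀ x, (σ ^ 2 ^ (j - 1)) ((σ ^ 2 ^ (j - 1)) x) = x := fun x => by
    show (σ ^ 2 ^ (j - 1) * σ ^ 2 ^ (j - 1)) x = x
    rw [← pow_add, show 2 ^ (j - 1) + 2 ^ (j - 1) = orderOf σ by
      rw [hj, ← two_mul, ← pow_succ', show j - 1 + 1 = j by omega], pow_orderOf_eq_one]
    rfl
  obtain ⟨g, hg⟩ := exists_translation_of_field_involution (X := X) (F := F)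
    (fun g x y => by
      simp only [hsmul]
      rw [← map_add, ← map_add, map_add e.symm, map_zero e.symm, haff])
    (fun x => by
      obtain ⟨g, hg⟩ := htr (e.symm x)
      exact ⟨g, by rw [hsmul, map_zero, hg, e.apply_symm_apply]⟩)
    (fun g hg => by
      rw [hsmul, map_zero, e.map_eq_zero_iff] at hg
      obtain ⟨a, σ, ha, h'⟩ := hstab g hg
      exact ⟨a, σ, ha, fun x => by rw [hsmul, h', e.apply_symm_apply]⟩)
    (fun a ha => by
      obtain ⟨t, ⟨t₁, -, ht'⟩, ht⟩ := hmul a ha
      exact ⟨t₁, fun x => by rw [hsmul, ← ht', ht, e.apply_symm_apply]⟩)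
    (pow_ne_one_of_lt_orderOf (by positivity) hlt) hτ2 ha'
    (g₀ := g₀ ^ 2 ^ (j - 1)) (fun x => by rw [hsmul, hτ, e.apply_symm_apply]) (e b)
  exact ⟨g, fun v => e.injective (by
    rw [map_add, ← hg, hsmul, e.symm_apply_apply])⟩
where
  frobenius_eq_one {K : Type v} [Field K] [CharP K 2] {a : K} (k : ℕ) (h : a ^ 2 ^ k = 1) : a = 1 := by
    induction k with
    | zero => simpa using h
    | succ k ih =>
      refine ih ?_
      rw [pow_succ, pow_mul] at h
      exact CharTwo.sq_inj.1 (h.trans (one_pow 2).symm)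

end CfsgLib.StrongCrit
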