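import Cfsg.Agent.Lib.StrongCrit.CentralOne.Count
import Cfsg.Agent.Lib.OddOrder.SylowOf

/-!
The central case of Aschbacher's criterion with fixed sets of `q + 1` points: a Sylow 2-group `P` of
the centraliser of a maximal elementary group `V` modulo the members. It is elementary abelian
modulo the members, meets the centraliser of `V` in `V` times the members and has one class of bad
involutions in each other fibre of the commutator map.
-/

set_option autoImplicit false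

namespace CfsgLib.StrongCrit.CentralOne

open CfsgLib.Involutions CfsgLib.OddOrder MulAction
open scoped Pointwise commutatorElement

universe u

variable {G : Type u} [Group G]

/-- A 2-subgroup of `M` is conjugate in `M` into a Sylow 2-subgroup of `M`. -/
theorem exists_conj_into [Finite G] {R M Q : Subgroup G} (hR : SylowOf 2 R M) (hQ : Q ≤ M)
    (hQ2 : IsPGroup 2 Q) : ∃ m ∈ M, ∀ g ∈ Q, m * g * m⁻¹ ∈ R := by
  have : Fact (Nat.Prime 2) := ⟨Nat.prime_two⟩
  obtain ⟨T, rfl⟩ := hR.toSylow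
  obtain ⟨S, hS⟩ := (hQ2.comap_of_injective M.subtype M.subtype_injective).exists_le_sylow
  obtain ⟨m, hm⟩ := MulAction.exists_smul_eq M S T
  refine ⟨m, m.2, fun g hg => ⟨m * ⟨g, hQ hg⟩ * m⁻¹, ?_, by simp⟩⟩
  rw [← hm, Sylow.coe_subgroup_smul, SetLike.mem_coe, Subgroup.mem_pointwise_smul_iff_inv_smul_mem]
  have h1 : (⟨g, hQ hg⟩ : M) ∈ Q.subgroupOf M := hg
  simpa [MulAut.smul_def, mul_assoc] using hS h1

variable {Ω : Type u} [MulAction G Ω]

/-- The group of the elements centralising the members at `c` and `V` modulo them. -/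
def nearGroup (Z : Set G) (c : Ω) (V : Subgroup G) : Subgroup G :=
  Subgroup.closure (nearCen Z c V)

/-- A Sylow 2-subgroup `P` above `V` of its centraliser modulo the members, with a bad involution in
every other fibre of the commutator maps. -/
structure Top (Ω : Type u) [MulAction G Ω] (Z : Set G) (c x : Ω) (u : G) (V P : Subgroup G) :
    Prop where
  ne : x ≠ c
  max : MaxElem Ω Z c x u V
  sylow : SylowOf 2 P (nearGroup Z c V)
  le_V : V ≤ P
  le_E : memGroup Z c ≤ P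
  onto : ∀ v ∈ V, v ≠ 1 → ∀ b ∈ memGroup Z c, b ≠ 1 →
    ∃ t ∈ P, IsBad Ω t ∧ t • c = c ∧ ⁅t, v⁆ = b

variable [Finite G] [Finite Ω] {Z : Set G} {e : ℕ} (h : CentralCase Ω Z 1 e)
include h

/-- A commutator in the members is multiplicative. -/
theorem comm_mul {c : Ω} {n m v : G} (hn : n ∈ cenAt Z c) (hm : ⁅m, v⁆ ∈ memGroup Z c)
    (hnv : ⁅n, v⁆ ∈ memGroup Z c) : ⁅n * m, v⁆ = ⁅n, v⁆ * ⁅m, v⁆ := by
  rw [(h.crit.base.commute_memGroup h.crit.faith h.comm hnv hm).eq]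
  simp only [commutatorElement_def] at hm ⊢
  calc n * m * v * (n * m)⁻¹ * v⁻¹ = n * (m * v * m⁻¹ * v⁻¹) * (v * n⁻¹ * v⁻¹) := by group
    _ = (m * v * m⁻¹ * v⁻¹) * n * (v * n⁻¹ * v⁻¹) := by rw [← (commute_cenAt h hm hn).eq]
    _ = _ := by group

theorem comm_inv {c : Ω} {n v : G} (hn : n ∈ cenAt Z c) (hnv : ⁅n, v⁆ ∈ memGroup Z c) :
    ⁅n⁻¹, v⁆ = ⁅n, v⁆ := by
  have h1 : ⁅n⁻¹, v⁆ = n⁻¹ * (⁅n, v⁆)⁻¹ * n := by simp only [commutatorElement_def]; group
  rw [h1, memGroup_inv h hnv, ← (commute_cenAt h hnv (inv_mem hn)).eq, mul_assoc, inv_mul_cancel,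
    mul_one]

theorem comm_memGroup {c : Ω} {b v : G} (hb : b ∈ memGroup Z c) (hv : v ∈ cenAt Z c) :
    ⁅b, v⁆ = 1 :=
  commutatorElement_eq_one_iff_commute.2 (commute_cenAt h hb hv)

theorem mem_nearGroup {c : Ω} {V : Subgroup G} {n : G} :
    n ∈ nearGroup Z c V ↔ n ∈ cenAt Z c ∧ ∀ v ∈ V, ⁅n, v⁆ ∈ memGroup Z c := by
  refine ⟨fun hn => ?_, fun hn => Subgroup.subset_closure hn⟩
  rw [nearGroup] at hn
  induction hn using Subgroup.closure_induction with
  | mem g hg => exact hg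
  | one => exact ⟨one_mem _, fun v _ => by simp⟩
  | mul a b _ _ ha hb =>
    exact ⟨mul_mem ha.1 hb.1, fun v hv => by
      rw [comm_mul h ha.1 (hb.2 v hv) (ha.2 v hv)]
      exact mul_mem (ha.2 v hv) (hb.2 v hv)⟩
  | inv a _ ha => exact ⟨inv_mem ha.1, fun v hv => by rw [comm_inv h ha.1 (ha.2 v hv)]; exact ha.2 v hv⟩

namespace MaxElem

variable {c x : Ω} {u : G} {V : Subgroup G} (hV : MaxElem Ω Z c x u V) (hxc : x ≠ c)
include hV hxc

theorem le_near : V ≤ nearGroup Z c V := fun v hv =>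
  (mem_nearGroup h).2 ⟨hV.le_cen hv, fun w hw => by
    rw [commutatorElement_eq_one_iff_commute.2 (hV.comm hv hw)]; exact one_mem _⟩

/-- An element commuting with one involution of `V` is, up to a member, in the stabiliser of `x` and
centralises `V`. -/
theorem exists_fix {n v : G} (hn : n ∈ nearGroup Z c V) (hv : v ∈ V) (hv1 : v ≠ 1)
    (hnv : Commute n v) :
    ∃ b ∈ memGroup Z c, (b * n) • x = x ∧ ∀ w ∈ V, Commute (b * n) w := by
  obtain ⟨hnC, hnV⟩ := (mem_nearGroup h).1 hn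
  obtain ⟨b, hb, hbx⟩ := exists_mul_fix h (hV.isBad h hxc hv hv1) (cenAt_fix h (hV.le_cen hv))
    (hV.fix v hv) hxc hnC hnv
  refine ⟨b, hb, hbx, fun w hw => commutatorElement_eq_one_iff_commute.1 ?_⟩
  have hbw := comm_memGroup h hb (hV.le_cen hw)
  have h1 : ⁅b * n, w⁆ = ⁅n, w⁆ := by
    rw [comm_mul h (memGroup_le_cenAt h hb) (hnV w hw) (by rw [hbw]; exact one_mem _), hbw, one_mul]
  refine memGroup_free h (h1 ▸ hnV w hw) hxc ?_
  have h2 := inv_smul_eq_iff.2 hbx.symm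
  have h3 := inv_smul_eq_iff.2 (hV.fix w hw).symm
  rw [commutatorElement_def, mul_smul, h3, mul_smul, h2, mul_smul, hV.fix w hw, hbx]

theorem commute_all {n v : G} (hn : n ∈ nearGroup Z c V) (hv : v ∈ V) (hv1 : v ≠ 1)
    (hnv : Commute n v) : ∀ w ∈ V, Commute n w := by
  obtain ⟨b, hb, -, hw'⟩ := hV.exists_fix h hxc hn hv hv1 hnv
  intro w hw
  have h1 := (commute_cenAt h hb (hV.le_cen hw)).inv_left.mul_left (hw' w hw)
  rwa [inv_mul_cancel_left] at h1

/-- A 2-element not centralising `V` squares to a member. -/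
theorem sq_mem_of_not_commute {g : G} (hg : g ∈ nearGroup Z c V) (hg2 : ∃ i : ℕ, g ^ 2 ^ i = 1)
    {v : G} (hv : v ∈ V) (hv1 : v ≠ 1) (hgv : ¬ Commute g v) : g * g ∈ memGroup Z c := by
  obtain ⟨hgC, hgV⟩ := (mem_nearGroup h).1 hg
  have h2 : Commute (g * g) v := commutatorElement_eq_one_iff_commute.1 (by
    rw [comm_mul h hgC (hgV v hv) (hgV v hv), memGroup_sq h (hgV v hv)])
  obtain ⟨b, hb, hbx, hbV⟩ := hV.exists_fix h hxc (mul_mem hg hg) hv hv1 h2
  suffices hk : b * (g * g) = 1 by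
    rw [← inv_eq_of_mul_eq_one_right hk]
    exact inv_mem hb
  by_contra hk
  obtain ⟨i, hi⟩ := hg2
  have hbg : Commute b g := commute_cenAt h hb hgC
  have hkp : (b * (g * g)) ^ 2 ^ (i + 1) = 1 := by
    rw [(hbg.mul_right hbg).mul_pow, pow_succ, pow_mul (g * g), ← pow_two g, ← pow_mul g,
      mul_comm 2 (2 ^ i), pow_mul g, hi, one_pow, one_pow, mul_one, mul_comm (2 ^ i), pow_mul,
      pow_two, memGroup_sq h hb, one_pow]
  obtain ⟨m, hm⟩ : ∃ m : ℕ, orderOf ((b * (g * g)) ^ m) = 2 := by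
    obtain ⟨j, -, hj⟩ := (Nat.dvd_prime_pow Nat.prime_two).1 (orderOf_dvd_of_pow_eq_one hkp)
    have hj0 : j ≠ 0 := fun e => hk (orderOf_eq_one_iff.1 (by rw [hj, e, pow_zero]))
    refine ⟨2 ^ (j - 1), ?_⟩
    rw [orderOf_pow' _ (by positivity), hj, Nat.gcd_eq_right (pow_dvd_pow 2 (by omega)),
      Nat.pow_div (by omega) two_pos, show j - (j - 1) = 1 by omega, pow_one]
  set t := (b * (g * g)) ^ m
  have htV : t ∈ V := hV.maximal t
    (pow_mem (mul_mem (memGroup_le_cenAt h hb) (mul_mem hgC hgC)) m)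
    (mem_stabilizer_iff.1 (pow_mem (mem_stabilizer_iff.2 hbx) m)) (mul_self_eq_one hm)
    fun w hw => (hbV w hw).pow_left m
  have ht1 : t ≠ 1 := fun e => by rw [e, orderOf_one] at hm; norm_num at hm
  have hgt : Commute g t :=
    (hbg.symm.mul_right ((Commute.refl g).mul_right (Commute.refl g))).pow_right m
  exact hgv (hV.commute_all h hxc hg htV ht1 hgt v hv)

end MaxElem

/-- The torus of `c` and `x` normalises the group of elements centralising `V` modulo members. -/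
theorem conj_nearGroup {c x : Ω} {u : G} {V J : Subgroup G} (hV : MaxElem Ω Z c x u V)
    (hxc : x ≠ c) (hJ : TorusAt Ω Z c x J) {j n : G} (hj : j ∈ J) (hn : n ∈ nearGroup Z c V) :
    j * n * j⁻¹ ∈ nearGroup Z c V ∧ ∀ v ∈ V, ⁅j * n * j⁻¹, v⁆ = j * ⁅n, v⁆ * j⁻¹ := by
  obtain ⟨hnC, hnV⟩ := (mem_nearGroup h).1 hn
  have hjc := (hJ.fix j hj).1
  have h1 : ∀ v ∈ V, ⁅j * n * j⁻¹, v⁆ = j * ⁅n, v⁆ * j⁻¹ := by
    intro v hv
    have h2 : Commute v j := by
      rcases eq_or_ne v 1 with rfl | hv1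
      · exact Commute.one_left j
      · exact hJ.commute v (hV.isBad h hxc hv hv1) (cenAt_fix h (hV.le_cen hv)) (hV.fix v hv) j hj
    rw [conjugate_commutatorElement]
    congr 1
    rw [← h2.eq, mul_inv_cancel_right]
  exact ⟨(mem_nearGroup h).2 ⟨conj_mem_cenAt h hjc hnC, fun v hv => by
    rw [h1 v hv]; exact conj_mem_memGroup h hjc (hnV v hv)⟩, h1⟩

/-- Such a Sylow subgroup exists. -/
theorem exists_top {c x : Ω} {u : G} (hxc : x ≠ c) (hu : IsBad Ω u) (huc : u • c = c)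
    (hux : u • x = x) : ∃ V P : Subgroup G, Top Ω Z c x u V P := by
  have : Fact (Nat.Prime 2) := ⟨Nat.prime_two⟩
  obtain ⟨V, hV⟩ := exists_maxElem h hu huc hux
  obtain ⟨J, hJ⟩ := exists_torusAt h hxc
  obtain ⟨z, hz, hzc, hzn, hzV⟩ := exists_near h hxc hV
  push Not at hzV
  obtain ⟨v₀, hv₀, hzv₀⟩ := hzV
  have hzN : z ∈ nearGroup Z c V := Subgroup.subset_closure hzn
  have hEN : memGroup Z c ≤ nearGroup Z c V := fun b hb =>
    (mem_nearGroup h).2 ⟨memGroup_le_cenAt h hb, fun v hv => by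
      rw [comm_memGroup h hb (hV.le_cen hv)]; exact one_mem _⟩
  have hV2 : IsPGroup 2 V := fun v => ⟨1, by
    rw [pow_one, pow_two]; exact Subtype.ext (hV.sq _ v.2)⟩
  have hVE : IsPGroup 2 (V ⊔ memGroup Z c : Subgroup G) :=
    hV2.to_sup_of_normal_right' (h.crit.base.isPGroup_memGroup h.crit.faith h.comm c)
      fun v hv => Subgroup.mem_normalizer_iff.2 fun g => by
        refine ⟨fun hg => conj_mem_memGroup h (cenAt_fix h (hV.le_cen hv)) hg, fun hg => ?_⟩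
        have h1 := conj_mem_memGroup h (g := v⁻¹)
          (inv_smul_eq_iff.2 (cenAt_fix h (hV.le_cen hv)).symm) hg
        simpa [mul_assoc] using h1
  obtain ⟨P, hP, hle⟩ := exists_sylowOf_ge (p := 2)
    (sup_le (hV.le_near h hxc) hEN) hVE
  refine ⟨V, P, hxc, hV, hP, le_sup_left.trans hle, le_sup_right.trans hle,
    fun v hv hv1 b hb hb1 => ?_⟩
  have hzv : ⁅z, v⁆ ≠ 1 := fun e => hzv₀
    (hV.commute_all h hxc hzN hv hv1 (commutatorElement_eq_one_iff_commute.1 e) v₀ hv₀)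
  have hzvE := ((mem_nearGroup h).1 hzN).2 v hv
  obtain ⟨j, hj, hjb⟩ := (hJ.regular _ (((mem_memGroup h).1 hzvE).resolve_left hzv)).surjOn
    (((mem_memGroup h).1 hb).resolve_left hb1)
  obtain ⟨hw, hwv⟩ := conj_nearGroup h hV hxc hJ hj hzN
  set w := j * z * j⁻¹ with hwdef
  have hwb : IsBad Ω w := isBad_conj hz j
  obtain ⟨m, hm, hmP⟩ := exists_conj_into hP (Subgroup.zpowers_le.2 hw) (isPGroup_zpowers hwb.1)
  have hmw := hmP w (Subgroup.mem_zpowers w)
  refine ⟨m * w * m⁻¹, hmw, isBad_conj hwb m,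
    cenAt_fix h ((mem_nearGroup h).1 (hP.1 hmw)).1, ?_⟩
  obtain ⟨hmC, hmV⟩ := (mem_nearGroup h).1 hm
  obtain ⟨hwC, hwV⟩ := (mem_nearGroup h).1 hw
  obtain ⟨hiC, hiV⟩ := (mem_nearGroup h).1 (inv_mem hm)
  rw [comm_mul h (mul_mem hmC hwC) (hiV v hv) (((mem_nearGroup h).1 (mul_mem hm hw)).2 v hv),
    comm_mul h hmC (hwV v hv) (hmV v hv), comm_inv h hmC (hmV v hv),
    (h.crit.base.commute_memGroup h.crit.faith h.comm (hmV v hv) (hwV v hv)).eq, mul_assoc,
    memGroup_sq h (hmV v hv), mul_one, hwv v hv]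
  exact hjb

namespace Top

variable {c x : Ω} {u : G} {V P : Subgroup G} (hT : Top Ω Z c x u V P)
include hT

theorem mem_near {g : G} (hg : g ∈ P) : g ∈ nearGroup Z c V := hT.sylow.1 hg

theorem mem_cen {g : G} (hg : g ∈ P) : g ∈ cenAt Z c := ((mem_nearGroup h).1 (hT.sylow.1 hg)).1

theorem comm_memGroup_u {g : G} (hg : g ∈ P) {v : G} (hv : v ∈ V) : ⁅g, v⁆ ∈ memGroup Z c :=
  ((mem_nearGroup h).1 (hT.sylow.1 hg)).2 v hv

omit h [Finite Ω] in
theorem exists_pow {g : G} (hg : g ∈ P) : ∃ i : ℕ, g ^ 2 ^ i = 1 := by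
  obtain ⟨i, hi⟩ := hT.sylow.2.1 ⟨g, hg⟩
  exact ⟨i, congrArg Subtype.val hi⟩

theorem exists_mem_comm {b : G} (hb : b ∈ memGroup Z c) : ∃ g ∈ P, ⁅g, u⁆ = b := by
  rcases eq_or_ne b 1 with rfl | hb1
  · exact ⟨1, one_mem P, by simp⟩
  · obtain ⟨t, ht, -, -, htb⟩ := hT.onto u hT.max.mem_u hT.max.ne_one b hb hb1
    exact ⟨t, ht, htb⟩

/-- An element of `P` centralising `u` is a member times an element of `V`. -/
theorem exists_mul_mem {g : G} (hg : g ∈ P) (hgu : Commute g u) :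
    ∃ b ∈ memGroup Z c, b * g ∈ V := by
  obtain ⟨b, hb, hbx, hbV⟩ :=
    hT.max.exists_fix h hT.ne (hT.mem_near h hg) hT.max.mem_u hT.max.ne_one hgu
  have hkC : b * g ∈ cenAt Z c := mul_mem (memGroup_le_cenAt h hb) (hT.mem_cen h hg)
  refine ⟨b, hb, hT.max.maximal _ hkC hbx ?_ hbV⟩
  -- the square is a member fixing `x`
  have hsq : ∀ k ∈ P, k * k ∈ memGroup Z c := by
    intro k hk
    by_cases hku : Commute k u
    · have hq := four_le h
      obtain ⟨b₁, hb₁, hb₁1⟩ : ∃ b₁ ∈ memGroup Z c, b₁ ≠ 1 := by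
        by_contra hc
        push Not at hc
        have h1 : memGroup Z c = ⊥ := (Subgroup.eq_bot_iff_forall _).2 hc
        have h2 := card_memGroup h c
        rw [h1, Subgroup.card_bot] at h2
        omega
      obtain ⟨b₂, hb₂, hb₂1, hb₂b⟩ : ∃ b₂ ∈ memGroup Z c, b₂ ≠ 1 ∧ b₂ ≠ b₁ := by
        by_contra hc
        push Not at hc
        have h1 : (memGroup Z c : Set G) ⊆ {1, b₁} := fun b hb => by
          by_cases hb1 : b = 1
          · exact Or.inl hb1
          · exact Or.inr (hc b hb hb1)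
        have h2 := (Set.ncard_le_ncard h1 (Set.toFinite _)).trans (Set.ncard_insert_le _ _)
        rw [← Nat.card_coe_set_eq, Set.ncard_singleton] at h2
        have h3 := card_memGroup h c
        change Nat.card (memGroup Z c) ≤ 1 + 1 at h2
        omega
      obtain ⟨g₁, hg₁, hg₁b⟩ := hT.exists_mem_comm h hb₁
      obtain ⟨g₂, hg₂, hg₂b⟩ := hT.exists_mem_comm h hb₂
      have hinv : ∀ a ∈ P, ⁅a, u⁆ ≠ 1 → ∃ d ∈ memGroup Z c, a * k * a⁻¹ = d * k⁻¹ := by
        intro a ha hau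
        have hna : ¬ Commute a u := fun e => hau (commutatorElement_eq_one_iff_commute.2 e)
        have hnak : ¬ Commute (a * k) u := fun e => hna (by
          have h1 := e.mul_left hku.inv_left
          rwa [mul_inv_cancel_right] at h1)
        have h1 := hT.max.sq_mem_of_not_commute h hT.ne (hT.mem_near h (mul_mem ha hk))
          (hT.exists_pow (mul_mem ha hk)) hT.max.mem_u hT.max.ne_one hnak
        have h2 := hT.max.sq_mem_of_not_commute h hT.ne (hT.mem_near h ha)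
          (hT.exists_pow ha) hT.max.mem_u hT.max.ne_one hna
        refine ⟨a * k * (a * k) * (a * a)⁻¹, mul_mem h1 (inv_mem h2), ?_⟩
        have h3 : Commute (a * a)⁻¹ k⁻¹ :=
          (commute_cenAt h h2 (hT.mem_cen h hk)).inv_inv
        rw [mul_assoc (a * k * (a * k)), h3.eq]
        group
      have hg₁₂ : ⁅g₁ * g₂, u⁆ ≠ 1 := by
        rw [comm_mul h (hT.mem_cen h hg₁) (hg₂b ▸ hb₂) (hg₁b ▸ hb₁), hg₁b, hg₂b]
        intro e
        exact hb₂b (by rw [← inv_eq_of_mul_eq_one_right e, memGroup_inv h hb₁])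
      obtain ⟨d₁, hd₁, he₁⟩ := hinv g₁ hg₁ (hg₁b ▸ hb₁1)
      obtain ⟨d₂, hd₂, he₂⟩ := hinv g₂ hg₂ (hg₂b ▸ hb₂1)
      obtain ⟨d₃, hd₃, he₃⟩ := hinv (g₁ * g₂) (mul_mem hg₁ hg₂) hg₁₂
      have hkey : d₃ * k⁻¹ = d₂ * (d₁⁻¹ * k) := by
        calc d₃ * k⁻¹ = g₁ * (g₂ * k * g₂⁻¹) * g₁⁻¹ := by rw [← he₃]; group
          _ = g₁ * d₂ * k⁻¹ * g₁⁻¹ := by rw [he₂]; group
          _ = d₂ * (g₁ * k * g₁⁻¹)⁻¹ := by
            rw [← (commute_cenAt h hd₂ (hT.mem_cen h hg₁)).eq]; group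
          _ = d₂ * (d₁⁻¹ * k) := by
            rw [he₁, mul_inv_rev, inv_inv,
              ← (commute_cenAt h (inv_mem hd₁) (hT.mem_cen h hk)).eq]
      have h4 : k * k = (d₂ * d₁⁻¹)⁻¹ * d₃ := by
        rw [← mul_assoc] at hkey
        calc k * k = (d₂ * d₁⁻¹)⁻¹ * (d₂ * d₁⁻¹ * k) * k := by group
          _ = (d₂ * d₁⁻¹)⁻¹ * d₃ := by rw [← hkey]; group
      rw [h4]
      exact mul_mem (inv_mem (mul_mem hd₂ (inv_mem hd₁))) hd₃
    · exact hT.max.sq_mem_of_not_commute h hT.ne (hT.mem_near h hk) (hT.exists_pow hk)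
        hT.max.mem_u hT.max.ne_one hku
  exact memGroup_free h (hsq _ (mul_mem (hT.le_E hb) hg)) hT.ne (by rw [mul_smul, hbx, hbx])

/-- The squares in `P` are members. -/
theorem sq_mem {g : G} (hg : g ∈ P) : g * g ∈ memGroup Z c := by
  by_cases hgu : Commute g u
  · obtain ⟨b, hb, hbv⟩ := hT.exists_mul_mem h hg hgu
    have h1 := hT.max.sq _ hbv
    have h2 : Commute b g := commute_cenAt h hb (hT.mem_cen h hg)
    rw [mul_assoc, ← mul_assoc g, ← h2.eq, mul_assoc b g, ← mul_assoc, memGroup_sq h hb,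
      one_mul] at h1
    rw [h1]
    exact one_mem _
  · exact hT.max.sq_mem_of_not_commute h hT.ne (hT.mem_near h hg) (hT.exists_pow hg)
      hT.max.mem_u hT.max.ne_one hgu

/-- The commutators in `P` are members. -/
theorem comm_mem {g k : G} (hg : g ∈ P) (hk : k ∈ P) : ⁅g, k⁆ ∈ memGroup Z c := by
  have h1 := mul_mem (mul_mem (hT.sq_mem h (mul_mem hg hk)) (inv_mem (hT.sq_mem h hg)))
    (inv_mem (hT.sq_mem h hk))
  have h2 : g * k * (g * k) * (g * g)⁻¹ * (k * k)⁻¹ = ⁅g, k⁆ := by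
    have h3 : Commute (g * g)⁻¹ k⁻¹ := (commute_cenAt h (hT.sq_mem h hg) (hT.mem_cen h hk)).inv_inv
    rw [mul_inv_rev k k, ← mul_assoc, mul_assoc _ (g * g)⁻¹ k⁻¹, h3.eq, commutatorElement_def]
    group
  rwa [h2] at h1

/-- Two bad involutions of `P` with the same commutator with `u` differ by a member. -/
theorem bad_unique {t t' : G} (ht : t ∈ P) (ht' : t' ∈ P) (htb : IsBad Ω t) (htb' : IsBad Ω t')
    (heq : ⁅t, u⁆ = ⁅t', u⁆) (hne : ⁅t, u⁆ ≠ 1) : ∃ b ∈ memGroup Z c, t' = t * b := by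
  have hu := hT.max.mem_u
  have h1 : Commute (t⁻¹ * t') u := commutatorElement_eq_one_iff_commute.1 (by
    rw [comm_mul h (inv_mem (hT.mem_cen h ht)) (hT.comm_memGroup_u h ht' hu)
      (hT.comm_memGroup_u h (inv_mem ht) hu), comm_inv h (hT.mem_cen h ht)
      (hT.comm_memGroup_u h ht hu), ← heq, memGroup_sq h (hT.comm_memGroup_u h ht hu)])
  obtain ⟨b, hb, hv⟩ := hT.exists_mul_mem h (mul_mem (inv_mem ht) ht') h1
  refine ⟨b, hb, ?_⟩
  by_contra hne'
  have hti := inv_eq_self_of_involution htb.1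
  set v := b * (t⁻¹ * t') with hvdef
  have hv1 : v ≠ 1 := fun e => hne' (by
    have h2 : t⁻¹ * t' = b⁻¹ := (inv_eq_of_mul_eq_one_right e).symm
    rw [← memGroup_inv h hb, ← h2, mul_inv_cancel_left])
  have hbi : Commute b⁻¹ t := (commute_cenAt h hb (hT.mem_cen h ht)).inv_left
  have h2 : t' = b⁻¹ * (t * v) := by
    rw [← mul_assoc, hbi.eq, mul_assoc, hvdef, inv_mul_cancel_left, mul_inv_cancel_left]
  have hbv : Commute b⁻¹ (t * v) :=
    hbi.mul_right (commute_cenAt h (inv_mem hb) (hT.max.le_cen hv))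
  have h3 : t * v * (t * v) = 1 := by
    have h4 := mul_self_eq_one htb'.1
    rw [h2, mul_assoc, ← mul_assoc (t * v), ← hbv.eq, mul_assoc b⁻¹, ← mul_assoc,
      memGroup_sq h (inv_mem hb), one_mul] at h4
    exact h4
  have h5 : Commute t v := commutatorElement_eq_one_iff_commute.1 (by
    rw [commutatorElement_def, hti, hT.max.inv_eq hv, mul_assoc _ t v]
    exact h3)
  exact hne (commutatorElement_eq_one_iff_commute.2
    (hT.max.commute_all h hT.ne (hT.mem_near h ht) hv hv1 h5 u hu))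

/-- Lifts of the torus normalise `P`. -/
theorem exists_normalize {J : Subgroup G} (hJ : TorusAt Ω Z c x J) {j : G} (hj : j ∈ J) :
    ∃ k ∈ cenAt Z c, k • x = x ∧ (∀ v ∈ V, Commute k v) ∧
      ∀ g ∈ P, k * j * g * (k * j)⁻¹ ∈ P := by
  set Q := P.map (MulAut.conj j).toMonoidHom with hQ
  obtain ⟨m, hm, hmP⟩ := exists_conj_into hT.sylow (Q := Q) (by
    rintro _ ⟨g, hg, rfl⟩
    exact (conj_nearGroup h hT.max hT.ne hJ hj (hT.mem_near h hg)).1) (hT.sylow.2.1.map _)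
  have hu := hT.max.mem_u
  obtain ⟨hmC, hmV⟩ := (mem_nearGroup h).1 hm
  obtain ⟨p, hp, hpu⟩ := hT.exists_mem_comm h (hmV u hu)
  have h1 : Commute (p⁻¹ * m) u := commutatorElement_eq_one_iff_commute.1 (by
    rw [comm_mul h (inv_mem (hT.mem_cen h hp)) (hmV u hu)
      (hT.comm_memGroup_u h (inv_mem hp) hu), comm_inv h (hT.mem_cen h hp)
      (hT.comm_memGroup_u h hp hu), hpu, memGroup_sq h (hmV u hu)])
  obtain ⟨b, hb, hbx, hbV⟩ := hT.max.exists_fix h hT.ne
    (mul_mem (inv_mem (hT.mem_near h hp)) hm) hu hT.max.ne_one h1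
  refine ⟨b * (p⁻¹ * m), mul_mem (memGroup_le_cenAt h hb) (mul_mem (inv_mem (hT.mem_cen h hp)) hmC),
    hbx, hbV, fun g hg => ?_⟩
  have h2 : p⁻¹ * (m * (j * g * j⁻¹) * m⁻¹) * p ∈ P :=
    mul_mem (mul_mem (inv_mem hp) (hmP _ ⟨g, hg, rfl⟩)) hp
  have h3 := mul_mem (mul_mem (hT.le_E hb) h2) (inv_mem (hT.le_E hb))
  convert h3 using 1
  group

end Top

end CfsgLib.StrongCrit.CentralOne
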